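import Mathlib

/-!
Elements of order a product of two primes from coprime actions, and a few general lemmas used to
show that groups of order 7920 with disconnected prime graph are simple.
-/

set_option autoImplicit false

namespace CfsgLib.Order7920

open Subgroup

variable {G : Type*} [Group G] [Finite G]

/-- There is an element of order `p * q`. -/
def HasOrd (G : Type*) [Group G] (p q : ℕ) : Prop := ∃ g : G, orderOf g = p * q

omit [Finite G] in
theorem HasOrd.symm {p q : ℕ} (h : HasOrd G p q) : HasOrd G q p :=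
  h.imp fun _ hg => hg.trans (Nat.mul_comm p q)

theorem HasOrd.of_quotient {M : Subgroup G} [M.Normal] {p q : ℕ} (h : HasOrd (G ⧸ M) p q) :
    HasOrd G p q := by
  obtain ⟨g, hg⟩ := h
  obtain ⟨x, rfl⟩ := QuotientGroup.mk_surjective g
  have hd : p * q ∣ orderOf x := hg ▸ orderOf_map_dvd (QuotientGroup.mk' M) x
  exact ⟨x ^ (orderOf x / (p * q)), orderOf_pow_orderOf_div (orderOf_pos x).ne' hd⟩

theorem HasOrd.of_subgroup {H : Subgroup G} {p q : ℕ} (h : HasOrd H p q) : HasOrd G p q := by
  obtain ⟨g, hg⟩ := h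
  exact ⟨g, by rw [Subgroup.orderOf_coe, hg]⟩

/-- Two subgroups centralising each other give an element of order `p * q`. -/
theorem hasOrd_of_centralizer {p q : ℕ} (hp : p.Prime) (hq : q.Prime) (hpq : p ≠ q)
    {H K : Subgroup G} (hHK : H ≤ centralizer (K : Set G)) (hpH : p ∣ Nat.card H)
    (hqK : q ∣ Nat.card K) : HasOrd G p q := by
  have := Fact.mk hp
  have := Fact.mk hq
  obtain ⟨x, hx⟩ := exists_prime_orderOf_dvd_card' p hpH
  obtain ⟨y, hy⟩ := exists_prime_orderOf_dvd_card' q hqK
  have hc : Commute (x : G) (y : G) := ((mem_centralizer_iff.1 (hHK x.2)) y y.2).symm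
  have hxo : orderOf (x : G) = p := (Subgroup.orderOf_coe x).trans hx
  have hyo : orderOf (y : G) = q := (Subgroup.orderOf_coe y).trans hy
  exact ⟨(x : G) * y, by
    rw [hc.orderOf_mul_eq_mul_orderOf_of_coprime
      (by rw [hxo, hyo]; exact (Nat.coprime_primes hp hq).2 hpq), hxo, hyo]⟩

/-- A `q`-group normalising a subgroup: the fixed points are congruent to the order. -/
theorem card_modEq_card_inf_centralizer {q : ℕ} [Fact q.Prime] {Y R : Subgroup G}
    (hY : IsPGroup q Y) (hYR : Y ≤ normalizer (R : Set G)) :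
    Nat.card R ≡ Nat.card (R ⊓ centralizer (Y : Set G) : Subgroup G) [MOD q] := by
  let φ : Y →* MulAut R := R.normalizerMonoidHom.comp (Subgroup.inclusion hYR)
  let act : MulAction Y R := MulAction.compHom R φ
  have hval : ∀ (y : Y) (r : R), ((y • r : R) : G) = (y : G) * r * (y : G)⁻¹ := fun _ _ => rfl
  have h := @IsPGroup.card_modEq_card_fixedPoints q Y _ hY _ R act _
  refine h.trans (congrArg (· % q) ?_)
  exact Nat.card_congr
    { toFun := fun v => ⟨(v.1 : G), v.1.2, mem_centralizer_iff.2 fun y hy => by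
        have h' : ((⟨y, hy⟩ : Y) • v.1 : R) = v.1 := v.2 ⟨y, hy⟩
        have h'' := congrArg Subtype.val h'
        rw [hval] at h''
        exact mul_inv_eq_iff_eq_mul.1 h''⟩
      invFun := fun w => ⟨⟨w.1, w.2.1⟩, fun y => Subtype.ext (by
        rw [hval]
        exact mul_inv_eq_iff_eq_mul.2 (mem_centralizer_iff.1 w.2.2 y y.2))⟩
      left_inv := fun _ => rfl
      right_inv := fun _ => rfl }

/-- A `q`-element normalising an `r`-group of order not `1` modulo `q` commutes with an element of
order `r`. -/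
theorem hasOrd_of_normalizer {r q : ℕ} (hr : r.Prime) (hq : q.Prime) (hrq : r ≠ q) {R : Subgroup G}
    (hR : IsPGroup r R) (hmod : Nat.card R % q ≠ 1)
    (hdvd : q ∣ Nat.card (normalizer (R : Set G))) : HasOrd G r q := by
  have := Fact.mk hr
  have := Fact.mk hq
  obtain ⟨y, hy⟩ := exists_prime_orderOf_dvd_card' q hdvd
  have hyo : orderOf (y : G) = q := (Subgroup.orderOf_coe y).trans hy
  have hY : IsPGroup q (zpowers (y : G)) :=
    IsPGroup.of_card (n := 1) (by rw [Nat.card_zpowers, hyo, pow_one])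
  have hle : zpowers (y : G) ≤ normalizer (R : Set G) := zpowers_le.2 y.2
  have hm := card_modEq_card_inf_centralizer hY hle
  set C := R ⊓ centralizer (zpowers (y : G) : Set G)
  refine hasOrd_of_centralizer hr hq hrq (H := C) (K := zpowers (y : G)) inf_le_right ?_
    (by rw [Nat.card_zpowers, hyo])
  obtain ⟨i, hi⟩ := (IsPGroup.iff_card.1 (hR.to_le (inf_le_left : C ≤ R)))
  rcases Nat.eq_zero_or_pos i with rfl | hpos
  · rw [hi, pow_zero, Nat.ModEq, Nat.one_mod_eq_one.2 hq.ne_one] at hm
    exact absurd hm hmod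
  · exact hi ▸ dvd_pow_self r hpos.ne'

/-- Frattini: the index of a normal subgroup divides the order of the normaliser of one of its
Sylow subgroups. -/
theorem index_dvd_card_normalizer {r : ℕ} [Fact r.Prime] (M : Subgroup G) [M.Normal]
    (T : Sylow r M) :
    M.index ∣ Nat.card (normalizer (((T : Subgroup M).map M.subtype : Subgroup G) : Set G)) := by
  set N := normalizer (((T : Subgroup M).map M.subtype : Subgroup G) : Set G)
  have h : N ⊔ M = ⊤ := Sylow.normalizer_sup_eq_top T
  have h2 : M.relIndex N = M.index := by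
    rw [← relIndex_sup_right (H := N) (K := M), h, relIndex_top_right]
  exact h2 ▸ relIndex_dvd_card M N

theorem hasOrd_of_frattini {r q : ℕ} (hr : r.Prime) (hq : q.Prime) (hrq : r ≠ q)
    (M : Subgroup G) [M.Normal] (hrM : r ∣ Nat.card M) (hqM : ¬ q ∣ Nat.card M)
    (hqG : q ∣ Nat.card G) (hmod : ∀ i, i ≠ 0 → r ^ i ∣ Nat.card M → r ^ i % q ≠ 1) :
    HasOrd G r q := by
  have := Fact.mk hr
  obtain ⟨T⟩ : Nonempty (Sylow r M) := inferInstance
  refine hasOrd_of_normalizer hr hq hrq (T.isPGroup'.map M.subtype) ?_ ?_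
  · obtain ⟨i, hi⟩ := IsPGroup.iff_card.1 T.isPGroup'
    have h0 : r ∣ Nat.card (T : Subgroup M) := T.dvd_card_of_dvd_card hrM
    rw [Subgroup.card_map_of_injective M.subtype_injective, hi]
    refine hmod i (fun h => ?_) (hi ▸ card_subgroup_dvd_card _)
    rw [hi, h, pow_zero] at h0
    exact hr.one_lt.ne' (Nat.dvd_one.1 h0)
  · refine dvd_trans ?_ (index_dvd_card_normalizer M T)
    rw [← M.card_mul_index] at hqG
    exact (hq.dvd_mul.1 hqG).resolve_left hqM

/-- Invariant Sylow subgroups of a normal subgroup. -/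
theorem sylow_dvd_centralizer {r q : ℕ} (hr : r.Prime) (hq : q.Prime)
    (M : Subgroup G) [M.Normal] (hqM : ¬ q ∣ Nat.card M) (hqG : q ∣ Nat.card G) {i : ℕ}
    (hi : r ^ i ∣ Nat.card M)
    (hfix : ∀ a b, r ^ a ∣ Nat.card M → b ≤ a → r ^ b % q = r ^ a % q → b = a) :
    ∃ y : G, orderOf y = q ∧ r ^ i ∣ Nat.card (centralizer ({y} : Set G)) := by
  have := Fact.mk hr
  have := Fact.mk hq
  obtain ⟨T⟩ : Nonempty (Sylow r M) := inferInstance
  have hqi : q ∣ M.index := by
    rw [← M.card_mul_index] at hqG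
    exact (hq.dvd_mul.1 hqG).resolve_left hqM
  set R := ((T : Subgroup M).map M.subtype : Subgroup G)
  obtain ⟨y, hy⟩ := exists_prime_orderOf_dvd_card' q
    (hqi.trans (index_dvd_card_normalizer M T))
  have hyo : orderOf (y : G) = q := (Subgroup.orderOf_coe y).trans hy
  refine ⟨y, hyo, ?_⟩
  have hY : IsPGroup q (zpowers (y : G)) :=
    IsPGroup.of_card (n := 1) (by rw [Nat.card_zpowers, hyo, pow_one])
  have hm := card_modEq_card_inf_centralizer hY (zpowers_le.2 y.2 : zpowers (y : G) ≤ normalizer R)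
  obtain ⟨a, ha⟩ := IsPGroup.iff_card.1 T.isPGroup'
  have hRa : Nat.card R = r ^ a := by rw [Subgroup.card_map_of_injective M.subtype_injective, ha]
  obtain ⟨b, hb⟩ := IsPGroup.iff_card.1 ((T.isPGroup'.map M.subtype).to_le
    (inf_le_left : R ⊓ centralizer (zpowers (y : G) : Set G) ≤ R))
  have hba : b ≤ a := by
    have := Subgroup.card_dvd_of_le
      (inf_le_left : R ⊓ centralizer (zpowers (y : G) : Set G) ≤ R)
    rw [hb, hRa] at this
    exact (Nat.pow_dvd_pow_iff_le_right hr.one_lt).1 this
  have hab : b = a := hfix a b (ha ▸ card_subgroup_dvd_card _) hba (by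
    have := hm; rw [hb, hRa] at this; exact this.symm)
  have hle : R ≤ centralizer ({(y : G)} : Set G) := by
    have heq : R ⊓ centralizer (zpowers (y : G) : Set G) = R :=
      Subgroup.eq_of_le_of_card_ge inf_le_left (by rw [hb, hRa, hab])
    intro x hx
    have hx2 : x ∈ R ⊓ centralizer (zpowers (y : G) : Set G) := by rw [heq]; exact hx
    exact mem_centralizer_singleton_iff.2
      (mem_centralizer_iff.1 hx2.2 y (mem_zpowers _)).symm
  refine dvd_trans ?_ (Subgroup.card_dvd_of_le hle)
  rw [hRa, ← ha]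
  rw [T.card_eq_multiplicity]
  exact Nat.pow_dvd_pow r ((hr.pow_dvd_iff_le_factorization Nat.card_pos.ne').1 hi)

theorem ncard_isConj (x : G) :
    (centralizer ({x} : Set G)).index = {h : G | IsConj x h}.ncard := by
  have h1 : (MulAction.stabilizer (ConjAct G) x).index = (MulAction.orbit (ConjAct G) x).ncard :=
    MulAction.index_stabilizer (ConjAct G) x
  have h2 : MulAction.orbit (ConjAct G) x = {h : G | IsConj x h} := by
    ext h; exact (ConjAct.mem_orbit_conjAct).trans isConj_comm
  rw [← h2, ← h1, ConjAct.stabilizer_eq_centralizer]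
  rfl

end CfsgLib.Order7920
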