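import Cfsg.Agent.Lib.Order7920.Eleven
import Cfsg.Agent.Lib.Blocks.Knorr

/-!
# Degrees in the principal 11-block of a simple group of order 7920
-/

set_option autoImplicit false
set_option linter.style.haveILetI false
set_option linter.unusedSectionVars false
open Cfsg CfsgLib.Characters CfsgLib.CharCorr
open scoped ComplexConjugate

namespace CfsgLib.Order7920

theorem divisors_small (X : ℕ) (h1 : X < 89) (h : X ∣ 7920) :
    X ∈ ([1, 2, 3, 4, 5, 6, 8, 9, 10, 11, 12, 15, 16, 18, 20, 22, 24, 30, 33, 36, 40, 44, 45, 48,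
      55, 60, 66, 72, 80, 88] : List ℕ) := by
  revert h
  revert X
  decide +kernel

theorem two_term_false {X D : ℕ} {A : ℤ} (hX : X < 89) (hXd : X ∣ 7920) (hD : D < 40) (hDd : D ∣ 7920)
    (hX11 : 11 ≤ X) (hD11 : 11 ≤ D) (hA : A = 1 ∨ A = -1) (hc : (11 : ℤ) ∣ (X : ℤ) - A)
    (hcD : (11 : ℤ) ∣ (D : ℤ) - 2 ∨ (11 : ℤ) ∣ (D : ℤ) + 2)
    (he : (D : ℤ) = 1 + A * X ∨ -(D : ℤ) = 1 + A * X) : False := by
  have h1 := divisors_small X hX hXd
  have h2 := divisors_small D (by omega) hDd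
  fin_cases h1 <;> fin_cases h2 <;> rcases hA with rfl | rfl <;> omega

theorem four_false {X D : ℕ} {A : ℤ} (hX : X < 89) (hXd : X ∣ 7920) (hD : D < 63) (hDd : D ∣ 7920)
    (hne : (X : ℤ) ≠ A) (hA : A = 2 ∨ A = -2) (hc : (11 : ℤ) ∣ (X : ℤ) - A)
    (hcD : (11 : ℤ) ∣ (D : ℤ) - 5 ∨ (11 : ℤ) ∣ (D : ℤ) + 5)
    (he : (D : ℤ) = 1 + A * X ∨ -(D : ℤ) = 1 + A * X) : False := by
  have h1 := divisors_small X hX hXd
  have h2 := divisors_small D (by omega) hDd
  fin_cases h1 <;> fin_cases h2 <;> rcases hA with rfl | rfl <;> omega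

theorem sign_degrees {X : ℕ} {A : ℤ} (hX : X < 89) (hXd : X ∣ 7920) (hne : (X : ℤ) ≠ A)
    (hX1 : X ≠ 1) (hA : A = 1 ∨ A = -1) (hc : (11 : ℤ) ∣ (X : ℤ) - A) :
    (X = 10 ∧ A = -1) ∨ (X = 12 ∧ A = 1) ∨ (X = 45 ∧ A = 1) := by
  have h1 := divisors_small X hX hXd
  fin_cases h1 <;> rcases hA with rfl | rfl <;> omega

theorem five_cases {a b c D : ℕ} (h : a + b + c = 4) (hDd : D ∣ 7920) (hD : D < 63)
    (hcD : (11 : ℤ) ∣ (D : ℤ) - 5 ∨ (11 : ℤ) ∣ (D : ℤ) + 5)
    (he : (D : ℤ) = 1 + (12 * b + 45 * c - 10 * a : ℤ) ∨ -(D : ℤ) = 1 + (12 * b + 45 * c - 10 * a : ℤ))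
    (hsq : 2 * D ^ 2 + 100 * a + 144 * b + 2025 * c + 1 ≤ 7920) :
    (a = 3 ∧ b = 0 ∧ c = 1 ∧ D = 16 ∧ (D : ℤ) = 1 + (12 * b + 45 * c - 10 * a : ℤ)) ∨
      (a = 2 ∧ b = 2 ∧ c = 0 ∧ D = 5 ∧ (D : ℤ) = 1 + (12 * b + 45 * c - 10 * a : ℤ)) := by
  have ha : a ≤ 4 := by omega
  have hb : b ≤ 4 := by omega
  obtain rfl : c = 4 - a - b := by omega
  have h2 := divisors_small D (by omega) hDd
  interval_cases a <;> interval_cases b <;> fin_cases h2 <;> omega

universe u

variable {G : Type u} [Group G] [Fintype G]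

theorem sum_norm_sylow {p : ℕ} [Fact p.Prime] (P : Sylow p G)
    (hab : IsMulCommutative ↥(P : Subgroup G)) (χ : IrrCharacter G) :
    ∑ y : (P : Subgroup G), (χ : G → ℂ) y * conj ((χ : G → ℂ) y) =
      (Nat.card (P : Subgroup G) : ℂ) * ∑ ψ : AbelianFrob.Dual P, (AbelianFrob.bcoef P χ ψ : ℂ) ^ 2 := by
  conv_lhs => arg 2; ext y; arg 2; rw [AbelianFrob.res_eq_sum P hab χ y]
  simp only [map_sum, map_mul, map_intCast, Finset.mul_sum]
  rw [Finset.sum_comm]
  refine Finset.sum_congr rfl fun ψ _ => ?_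
  rw [sq, ← mul_assoc]
  conv_rhs => rw [mul_comm (Nat.card (P : Subgroup G) : ℂ), AbelianFrob.bcoef_eq]
  rw [Finset.mul_sum, Finset.sum_mul, Finset.sum_mul]
  refine Finset.sum_congr rfl fun y _ => ?_
  have : conj (ψ y : ℂ) = (ψ y⁻¹ : ℂ) := by
    have := irr_apply_inv (AbelianFrob.linIrr P ψ) y
    exact this.symm
  rw [this, AbelianFrob.bcoef_eq]
  have hc : (Nat.card (P : Subgroup G) : ℂ) ≠ 0 := by simp
  field_simp
  rw [← Finset.sum_div, mul_assoc, mul_div_cancel₀ _ hc]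

theorem charDegree_lt {χ : IrrCharacter G} {n : ℕ} (hn : Nat.card G < n ^ 2) :
    charDegree (χ : G → ℂ) < n := by
  have h := Finset.single_le_sum (f := fun η : IrrCharacter G => charDegree (η : G → ℂ) ^ 2)
    (fun _ _ => Nat.zero_le _) (Finset.mem_univ χ)
  rw [Chars17.natSum_sq_degrees] at h
  exact lt_of_pow_lt_pow_left₀ 2 (Nat.zero_le _) (h.trans_lt hn)

variable [IsSimpleGroup G]

open scoped Classical in
/-- The principal 11-block and the remaining characters. -/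
theorem exists_block (hG : Nat.card G = 7920) [Fact (Nat.Prime 11)] :
    ∃ (R E Z : Finset (IrrCharacter G)) (A : IrrCharacter G → ℤ) (D : ℕ), Block 11 R E Z A D ∧
      (∀ P : Sylow 11 G, Nat.card (AbelianFrob.CP P) = 11) ∧
      (∀ χ ∈ R, (charDegree (χ : G → ℂ) = 10 ∧ A χ = -1) ∨
        (charDegree (χ : G → ℂ) = 12 ∧ A χ = 1) ∨ (charDegree (χ : G → ℂ) = 45 ∧ A χ = 1)) ∧
      ((D = 16 ∧ (R.filter fun χ : IrrCharacter G => charDegree (χ : G → ℂ) = 10).card = 3 ∧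
          (R.filter fun χ : IrrCharacter G => charDegree (χ : G → ℂ) = 12).card = 0 ∧
          (R.filter fun χ : IrrCharacter G => charDegree (χ : G → ℂ) = 45).card = 1) ∨
        (D = 5 ∧ (R.filter fun χ : IrrCharacter G => charDegree (χ : G → ℂ) = 10).card = 2 ∧
          (R.filter fun χ : IrrCharacter G => charDegree (χ : G → ℂ) = 12).card = 2 ∧
          (R.filter fun χ : IrrCharacter G => charDegree (χ : G → ℂ) = 45).card = 0)) := by
  classical
  have hnc := not_comm hG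
  obtain ⟨M, hM⟩ := CfsgLib.Blocks.exists_isPModular (p := 11)
  obtain ⟨P⟩ : Nonempty (Sylow 11 G) := inferInstance
  have hP := card_sylow_eleven hG P
  have hab := isMulCommutative_sylow P hP
  have hfrob := fpf P hP
  have hcases := eleven_cases hG P
  set m := (AbelianFrob.CP P).relIndex (AbelianFrob.NP P) with hm
  have hm' : m + 1 < Nat.card (P : Subgroup G) := by
    rw [hP]; rcases hcases with ⟨h, -⟩ | ⟨h, -⟩ <;> omega
  obtain ⟨μ, A, d, δ, S⟩ := AbelianFrob.exists_struct P hab hfrob hM hm'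
  obtain ⟨hpr, hA1⟩ := S.principal_mem_rest hab hfrob hM hm'
  obtain ⟨ψ₀, hψ₀⟩ : ∃ ψ : AbelianFrob.Dual P, ψ ≠ 1 := by
    obtain ⟨χ, hχ⟩ := Finset.card_pos.1 (lt_of_lt_of_le Nat.two_pos
      (S.two_le_card_exc hab hfrob hm'))
    obtain ⟨ψ, hψ, -⟩ := S.mem_exc.1 hχ
    exact ⟨ψ, hψ⟩
  have hexc := S.card_exc_mul hab hfrob
  rw [hP, ← hm] at hexc
  set D := charDegree (μ ψ₀ : G → ℂ) with hD
  have h11 : ¬ 11 ∣ orderOf (1 : G) := by rw [orderOf_one]; norm_num
  have hdegE : ∀ χ ∈ S.exc, charDegree (χ : G → ℂ) = D := by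
    intro χ hχ
    obtain ⟨ψ, hψ, rfl⟩ := S.mem_exc.1 hχ
    have := S.regular_eq hM hψ hψ₀ h11
    rw [irr_one_eq_charDegree, irr_one_eq_charDegree] at this
    exact_mod_cast this
  set R := S.rest.erase (principalIrr G) with hR
  have hRne : ∀ χ ∈ R, χ ≠ principalIrr G := fun χ h => (Finset.mem_erase.1 h).1
  have hRB : ∀ χ ∈ R, χ ∈ principalBlock M G := fun χ h =>
    (S.mem_rest.1 (Finset.mem_erase.1 h).2).1
  have hRr : ∀ χ ∈ R, χ ∈ S.rest := fun χ h => (Finset.mem_erase.1 h).2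
  have hexmem : μ ψ₀ ∈ S.exc := S.mem_exc.2 ⟨ψ₀, hψ₀, rfl⟩
  have hprne : μ ψ₀ ≠ principalIrr G := fun h => (S.mem_rest.1 hpr).2 (h ▸ hexmem)
  have hA0 : ∀ χ ∈ R, A χ ≠ 0 := fun χ h => S.A_ne_zero hab hfrob hM (by rw [hP]; norm_num) (hRr χ h)
  have hAX : ∀ χ ∈ R, (charDegree (χ : G → ℂ) : ℤ) ≠ A χ := by
    intro χ hχ h
    obtain ⟨y, hy⟩ := exists_prime_orderOf_dvd_card' (G := (P : Subgroup G)) 11 hP.symm.dvd
    have hy1 : (y : G) ≠ 1 := fun e => by
      rw [← Subgroup.orderOf_coe, e, orderOf_one] at hy; omega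
    refine hy1 (eq_one_of_apply_eq_one (hRne χ hχ) ?_)
    rw [S.value_rest hab hfrob hM (hRr χ hχ) (AbelianFrob.isPPart_self P hM.1 y.2) y.2 hy1,
      irr_one_eq_charDegree, ← h, Int.cast_natCast]
  have hcong : ∀ χ ∈ R, (11 : ℤ) ∣ (charDegree (χ : G → ℂ) : ℤ) - A χ := by
    intro χ hχ
    obtain ⟨b, k, -, -, hk, -, hX, -, -⟩ := bcoef_sum_formulas P hP hM S (hRB χ hχ)
    exact ⟨b - A χ, by rw [hX, hk (hRr χ hχ)]; push_cast; ring⟩
  have hcongD : (11 : ℤ) ∣ (D : ℤ) - d - m * δ := by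
    obtain ⟨b, k, -, -, -, hk, hX, -, -⟩ := bcoef_sum_formulas P hP hM S (S.mem ψ₀ hψ₀)
    obtain ⟨h1, h2⟩ := hk hexmem
    exact ⟨b - d, by rw [← hD] at hX; rw [hX, h1, h2]; push_cast; ring⟩
  have hXlt : ∀ χ : IrrCharacter G, charDegree (χ : G → ℂ) < 89 := fun χ =>
    charDegree_lt (by rw [hG]; norm_num)
  have hdvd : ∀ χ : IrrCharacter G, charDegree (χ : G → ℂ) ∣ 7920 := fun χ =>
    hG ▸ charDegree_irr_dvd_card χ
  have hnorm := S.norm_eq hab hfrob hM hψ₀
  rw [← Finset.add_sum_erase _ _ hpr, hA1, ← hm, ← hR] at hnorm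
  have hrel : ((S.exc.card : ℤ) * d - δ) * D + (1 + ∑ χ ∈ R, A χ * charDegree (χ : G → ℂ)) = 0 := by
    have h := S.regular_rel hM hψ₀ h11
    rw [← Finset.add_sum_erase _ _ hpr, hA1, irr_one_eq_charDegree, ← hR] at h
    rw [Finset.sum_congr rfl fun χ _ => by rw [irr_one_eq_charDegree χ]] at h
    simp only [principalIrr, Int.cast_one, one_mul] at h
    exact_mod_cast h
  have hsq : 1 + ∑ χ ∈ R, charDegree (χ : G → ℂ) ^ 2 + S.exc.card * D ^ 2 ≤ 7920 := by
    have hsub : ∑ χ ∈ Finset.univ.filter (· ∈ principalBlock M G), charDegree (χ : G → ℂ) ^ 2 ≤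
        ∑ χ : IrrCharacter G, charDegree (χ : G → ℂ) ^ 2 :=
      Finset.sum_le_sum_of_subset (Finset.subset_univ _)
    rw [Chars17.natSum_sq_degrees, hG, S.sum_split, ← Finset.add_sum_erase _ _ hpr,
      Finset.sum_congr rfl ((fun χ hχ => by rw [hdegE χ hχ]) :
        ∀ χ ∈ S.exc, charDegree (χ : G → ℂ) ^ 2 = D ^ 2),
      Finset.sum_const, smul_eq_mul] at hsub
    refine le_trans (le_of_eq ?_) hsub
    congr 2
    simp [principalIrr, charDegree]
  have hA2 : ∀ χ ∈ R, 1 ≤ A χ ^ 2 := fun χ h => by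
    have := sq_pos_of_ne_zero (hA0 χ h)
    omega
  rcases hcases with ⟨hm5, hC⟩ | ⟨hm2, hC⟩
  swap
  · exfalso
    have ht : S.exc.card = 5 := by rw [hm2] at hexc; omega
    rw [hm2, ht] at hnorm
    push_cast at hnorm hcongD
    have hd0 : d = 0 := by
      by_contra h
      have h1 := sq_pos_of_ne_zero h
      nlinarith [sq_nonneg (d - δ), Finset.sum_nonneg (fun χ (_ : χ ∈ R) => sq_nonneg (A χ))]
    subst hd0
    rw [hm2] at hcongD
    push_cast at hcongD
    have hδ2 := S.delta_sq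
    have hsum1 : ∑ χ ∈ R, A χ ^ 2 = 1 := by linear_combination hnorm - hδ2
    have hcard : R.card ≤ 1 := by
      have : (R.card : ℤ) ≤ ∑ χ ∈ R, A χ ^ 2 := by
        rw [Finset.card_eq_sum_ones, Nat.cast_sum]
        exact Finset.sum_le_sum fun χ h => by simpa using hA2 χ h
      omega
    rw [ht] at hrel hsq
    push_cast at hrel
    have hRnonempty : R.Nonempty := Finset.nonempty_of_sum_ne_zero (hsum1 ▸ one_ne_zero)
    obtain ⟨χ, hχ⟩ := Finset.card_eq_one.1 (le_antisymm hcard (Finset.card_pos.2 hRnonempty))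
    have hχR : χ ∈ R := by rw [hχ]; exact Finset.mem_singleton_self χ
    rw [hχ, Finset.sum_singleton] at hsum1 hrel
    have hX11 : 11 ≤ charDegree (χ : G → ℂ) :=
      le_charDegree_of_centralizer P hP hM (by rw [hC]; norm_num) (hRB χ hχR) (hRne χ hχR)
    have hD11 : 11 ≤ D := le_charDegree_of_centralizer P hP hM (by rw [hC]; norm_num)
      (S.mem ψ₀ hψ₀) hprne
    have hD40 : D < 40 := by
      have : 5 * D ^ 2 ≤ 7919 := by omega
      nlinarith
    refine two_term_false (hXlt χ) (hdvd χ) hD40 (hdvd _) hX11 hD11 (sq_eq_one_iff.1 hsum1)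
      (hcong χ hχR) ?_ ?_
    · rcases S.sign with rfl | rfl
      · left; simpa using hcongD
      · right; simpa using hcongD
    · rcases S.sign with rfl | rfl
      · left; linarith
      · right; linarith
  have ht : S.exc.card = 2 := by rw [hm5] at hexc; omega
  rw [hm5, ht] at hnorm
  push_cast at hnorm
  rw [ht] at hrel hsq
  push_cast at hrel
  have hD63 : D < 63 := by
    have : 2 * D ^ 2 ≤ 7919 := by omega
    nlinarith
  rw [hm5] at hcongD
  push_cast at hcongD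
  have hdd : d * (d - δ) = 0 := by
    by_contra h
    have hd2 : (5 : ℤ) ≤ (d - δ) ^ 2 + d ^ 2 := by
      rcases S.sign with rfl | rfl
      · have : d ≠ 0 ∧ d ≠ 1 := ⟨fun e => h (by rw [e]; ring), fun e => h (by rw [e]; ring)⟩
        rcases (show d ≤ -1 ∨ 2 ≤ d by omega) with h' | h' <;> nlinarith
      · have : d ≠ 0 ∧ d ≠ -1 := ⟨fun e => h (by rw [e]; ring), fun e => h (by rw [e]; ring)⟩
        rcases (show d ≤ -2 ∨ 1 ≤ d by omega) with h' | h' <;> nlinarith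
    have hR0 : R = ∅ := by
      rw [← Finset.card_eq_zero]
      have hle : (R.card : ℤ) ≤ ∑ χ ∈ R, A χ ^ 2 := by
        rw [Finset.card_eq_sum_ones, Nat.cast_sum]
        exact Finset.sum_le_sum fun χ h => by simpa using hA2 χ h
      omega
    rw [hR0, Finset.sum_empty] at hrel
    have hD1 : D = 1 := by
      have : (D : ℤ) ∣ 1 := ⟨-(2 * d - δ), by linarith⟩
      exact Nat.eq_one_of_dvd_one (Int.natCast_dvd_natCast.1 (by exact_mod_cast this))
    exact hprne (eq_principal_of_charDegree_one hnc hD1)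
  have hδ2 := S.delta_sq
  have hsum4 : ∑ χ ∈ R, A χ ^ 2 = 4 := by linear_combination hnorm - 2 * hdd - hδ2
  have hcD : (11 : ℤ) ∣ (D : ℤ) - 5 ∨ (11 : ℤ) ∣ (D : ℤ) + 5 := by
    rcases mul_eq_zero.1 hdd with h | h
    · rcases S.sign with rfl | rfl <;> simp only [h] at hcongD
      · left; simpa using hcongD
      · right; simpa using hcongD
    · rw [sub_eq_zero] at h
      rcases S.sign with rfl | rfl <;> simp only [h] at hcongD
      · right; obtain ⟨k, hk⟩ := hcongD; exact ⟨k + 1, by linarith⟩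
      · left; obtain ⟨k, hk⟩ := hcongD; exact ⟨k - 1, by linarith⟩
  have hc : 2 * d - δ = 1 ∨ 2 * d - δ = -1 := by
    rcases mul_eq_zero.1 hdd with h | h
    · rcases S.sign with rfl | rfl <;> omega
    · rw [sub_eq_zero] at h
      rcases S.sign with rfl | rfl <;> omega
  have hT : (D : ℤ) = 1 + ∑ χ ∈ R, A χ * charDegree (χ : G → ℂ) ∨
      -(D : ℤ) = 1 + ∑ χ ∈ R, A χ * charDegree (χ : G → ℂ) := by
    rcases hc with h | h <;> rw [h] at hrel
    · right; linarith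
    · left; linarith
  have hpm : ∀ χ ∈ R, A χ = 1 ∨ A χ = -1 := by
    by_contra! hall
    obtain ⟨χ, hχ, h1, h2⟩ := hall
    have h4 : 4 ≤ A χ ^ 2 := by
      rcases (show A χ ≤ -2 ∨ 2 ≤ A χ by have := hA0 χ hχ; omega) with h' | h' <;> nlinarith
    have hzero : ∑ η ∈ R.erase χ, A η ^ 2 = 0 ∧ A χ ^ 2 = 4 := by
      have := Finset.add_sum_erase R (fun η => A η ^ 2) hχ
      rw [hsum4] at this
      have h0 : 0 ≤ ∑ η ∈ R.erase χ, A η ^ 2 := Finset.sum_nonneg fun η _ => sq_nonneg _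
      constructor <;> omega
    have hsingle : R = {χ} := by
      refine Finset.eq_singleton_iff_unique_mem.2 ⟨hχ, fun η hη => ?_⟩
      by_contra hne
      have := (Finset.sum_eq_zero_iff_of_nonneg fun η _ => sq_nonneg (A η)).1 hzero.1 η
        (Finset.mem_erase.2 ⟨hne, hη⟩)
      have := hA2 η hη
      omega
    rw [hsingle, Finset.sum_singleton] at hT
    exact four_false (hXlt χ) (hdvd χ) hD63 (hdvd _) (hAX χ hχ)
      (sq_eq_sq_iff_eq_or_eq_neg.1 (hzero.2.trans (by norm_num : (4 : ℤ) = 2 ^ 2)))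
      (hcong χ hχ) hcD hT
  have hdeg : ∀ χ ∈ R, (charDegree (χ : G → ℂ) = 10 ∧ A χ = -1) ∨
      (charDegree (χ : G → ℂ) = 12 ∧ A χ = 1) ∨ (charDegree (χ : G → ℂ) = 45 ∧ A χ = 1) :=
    fun χ hχ => sign_degrees (hXlt χ) (hdvd χ) (hAX χ hχ)
      (fun h => hRne χ hχ (eq_principal_of_charDegree_one hnc h)) (hpm χ hχ) (hcong χ hχ)
  set Ra := R.filter (fun χ : IrrCharacter G => charDegree (χ : G → ℂ) = 10) with hRa
  set Rb := R.filter (fun χ : IrrCharacter G => charDegree (χ : G → ℂ) = 12) with hRb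
  set Rc := R.filter (fun χ : IrrCharacter G => charDegree (χ : G → ℂ) = 45) with hRc
  have hsplitR : ∀ F : IrrCharacter G → ℤ,
      ∑ χ ∈ R, F χ = ∑ χ ∈ Ra, F χ + ∑ χ ∈ Rb, F χ + ∑ χ ∈ Rc, F χ := by
    intro F
    rw [hRa, hRb, hRc, Finset.sum_filter, Finset.sum_filter, Finset.sum_filter,
      ← Finset.sum_add_distrib, ← Finset.sum_add_distrib]
    refine Finset.sum_congr rfl fun χ hχ => ?_
    rcases hdeg χ hχ with ⟨h, -⟩ | ⟨h, -⟩ | ⟨h, -⟩ <;> simp [h]
  have habc : Ra.card + Rb.card + Rc.card = 4 := by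
    have h := hsplitR fun χ => A χ ^ 2
    rw [hsum4, Finset.sum_congr rfl (fun χ hχ => show A χ ^ 2 = 1 from sq_eq_one_iff.2
        (hpm χ (Finset.mem_filter.1 hχ).1) : ∀ χ ∈ Ra, _ = (1 : ℤ)),
      Finset.sum_congr rfl (fun χ hχ => show A χ ^ 2 = 1 from sq_eq_one_iff.2
        (hpm χ (Finset.mem_filter.1 hχ).1) : ∀ χ ∈ Rb, _ = (1 : ℤ)),
      Finset.sum_congr rfl (fun χ hχ => show A χ ^ 2 = 1 from sq_eq_one_iff.2
        (hpm χ (Finset.mem_filter.1 hχ).1) : ∀ χ ∈ Rc, _ = (1 : ℤ))] at h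
    simp only [Finset.sum_const, nsmul_eq_mul, mul_one] at h
    omega
  have hAdeg : ∑ χ ∈ R, A χ * charDegree (χ : G → ℂ) =
      12 * (Rb.card : ℤ) + 45 * Rc.card - 10 * Ra.card := by
    rw [hsplitR, Finset.sum_congr rfl (fun χ hχ => show A χ * (charDegree (χ : G → ℂ) : ℤ) = -10 by
        obtain ⟨h1, h2⟩ := Finset.mem_filter.1 hχ
        rcases hdeg χ h1 with ⟨h, h'⟩ | ⟨h, h'⟩ | ⟨h, h'⟩ <;> rw [h] at h2 <;>
          first | omega | (rw [h, h']; norm_num)),
      Finset.sum_congr rfl (fun χ hχ => show A χ * (charDegree (χ : G → ℂ) : ℤ) = 12 by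
        obtain ⟨h1, h2⟩ := Finset.mem_filter.1 hχ
        rcases hdeg χ h1 with ⟨h, h'⟩ | ⟨h, h'⟩ | ⟨h, h'⟩ <;> rw [h] at h2 <;>
          first | omega | (rw [h, h']; norm_num)),
      Finset.sum_congr rfl (fun χ hχ => show A χ * (charDegree (χ : G → ℂ) : ℤ) = 45 by
        obtain ⟨h1, h2⟩ := Finset.mem_filter.1 hχ
        rcases hdeg χ h1 with ⟨h, h'⟩ | ⟨h, h'⟩ | ⟨h, h'⟩ <;> rw [h] at h2 <;>
          first | omega | (rw [h, h']; norm_num))]
    simp only [Finset.sum_const, nsmul_eq_mul]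
    ring
  have hsqR : ∑ χ ∈ R, ((charDegree (χ : G → ℂ) ^ 2 : ℕ) : ℤ) =
      100 * (Ra.card : ℤ) + 144 * Rb.card + 2025 * Rc.card := by
    rw [hsplitR, Finset.sum_congr rfl (fun (χ : IrrCharacter G) hχ => show ((charDegree (χ : G → ℂ) ^ 2 : ℕ) : ℤ) = 100 by
        rw [(Finset.mem_filter.1 hχ).2]; norm_num),
      Finset.sum_congr rfl (fun (χ : IrrCharacter G) hχ => show ((charDegree (χ : G → ℂ) ^ 2 : ℕ) : ℤ) = 144 by
        rw [(Finset.mem_filter.1 hχ).2]; norm_num),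
      Finset.sum_congr rfl (fun (χ : IrrCharacter G) hχ => show ((charDegree (χ : G → ℂ) ^ 2 : ℕ) : ℤ) = 2025 by
        rw [(Finset.mem_filter.1 hχ).2]; norm_num)]
    simp only [Finset.sum_const, nsmul_eq_mul]
    ring
  have hsqR' : ∑ χ ∈ R, charDegree (χ : G → ℂ) ^ 2 =
      100 * Ra.card + 144 * Rb.card + 2025 * Rc.card := by exact_mod_cast hsqR
  rw [hAdeg] at hT
  have hfin := five_cases (D := D) habc (hdvd _) hD63 hcD hT (by omega)
  have hDplus : (D : ℤ) = 1 + ∑ χ ∈ R, A χ * charDegree (χ : G → ℂ) := by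
    rw [hAdeg]; rcases hfin with ⟨-, -, -, -, h⟩ | ⟨-, -, -, -, h⟩ <;> exact h
  have hcneg : 2 * d - δ = -1 := by
    rcases hc with h | h
    · exfalso
      rw [h] at hrel
      rcases hfin with ⟨-, -, -, h', -⟩ | ⟨-, -, -, h', -⟩ <;> omega
    · exact h
  -- outside the block
  set Z := Finset.univ.filter (fun χ : IrrCharacter G => χ ∉ principalBlock M G) with hZ
  let W : IrrCharacter G → ℤ := fun χ =>
    11 * (∑ ψ : AbelianFrob.Dual P, AbelianFrob.bcoef P χ ψ ^ 2) - (charDegree (χ : G → ℂ) : ℤ) ^ 2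
  have hW : ∀ χ : IrrCharacter G, ((W χ : ℤ) : ℂ) =
      ∑ y ∈ Finset.univ.erase (1 : (P : Subgroup G)), (χ : G → ℂ) y * conj ((χ : G → ℂ) y) := by
    intro χ
    have h := sum_norm_sylow P hab χ
    rw [← Finset.add_sum_erase _ _ (Finset.mem_univ (1 : (P : Subgroup G))), OneMemClass.coe_one,
      irr_one_eq_charDegree, Complex.conj_natCast, hP] at h
    simp only [W]
    push_cast at h ⊢
    linear_combination -h
  have hWnn : ∀ χ : IrrCharacter G, ((W χ : ℤ) : ℝ) =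
      ∑ y ∈ Finset.univ.erase (1 : (P : Subgroup G)), Complex.normSq ((χ : G → ℂ) y) := by
    intro χ
    have h := hW χ
    simp only [Complex.mul_conj] at h
    exact_mod_cast h
  have hWtot : ∑ χ : IrrCharacter G, W χ = 110 := by
    have h : ((∑ χ : IrrCharacter G, W χ : ℤ) : ℂ) = ((110 : ℤ) : ℂ) := by
      push_cast
      rw [Finset.sum_congr rfl (fun χ _ => hW χ), Finset.sum_comm,
        Finset.sum_congr rfl (fun y hy => show _ = (11 : ℂ) by
          rw [column_orth, if_pos (IsConj.refl _), centralizer_singleton_eq P hP y.2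
            (fun e => (Finset.mem_erase.1 hy).1 (Subtype.ext e)), hC]
          norm_num), Finset.sum_const, Finset.card_erase_of_mem (Finset.mem_univ _), Finset.card_univ,
        ← Nat.card_eq_fintype_card, hP]
      norm_num
    exact_mod_cast h
  have hWB : ∑ χ ∈ Finset.univ.filter (· ∈ principalBlock M G), W χ = 110 := by
    have hr : ∀ χ ∈ S.rest, W χ = 10 * A χ ^ 2 := by
      intro χ hχ
      obtain ⟨b, k, -, -, hk, -, hX, -, hsq'⟩ := bcoef_sum_formulas P hP hM S (S.mem_rest.1 hχ).1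
      simp only [W]
      rw [hsq', hX, hk hχ]
      push_cast
      ring
    have he : ∀ χ ∈ S.exc, W χ = 30 := by
      intro χ hχ
      obtain ⟨φ, hφ, rfl⟩ := S.mem_exc.1 hχ
      obtain ⟨b, k, -, -, -, hk, hX, -, hsq'⟩ := bcoef_sum_formulas P hP hM S (S.mem φ hφ)
      obtain ⟨h1, h2⟩ := hk hχ
      simp only [W]
      rw [hsq', hX, h1, h2, ← hm, hm5]
      push_cast
      linear_combination 10 * hdd - 25 * hδ2
    rw [S.sum_split, Finset.sum_congr rfl hr, Finset.sum_congr rfl he, Finset.sum_const, ht,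
      ← Finset.add_sum_erase _ _ hpr, hA1, ← Finset.mul_sum, ← hR, hsum4]
    norm_num
  have hZvan : ∀ χ ∈ Z, ∀ y : (P : Subgroup G), y ≠ 1 → (χ : G → ℂ) y = 0 := by
    intro χ hχ y hy
    have h0 : ∑ η ∈ Z, W η = 0 := by
      have h := Finset.sum_filter_add_sum_filter_not (Finset.univ : Finset (IrrCharacter G))
        (· ∈ principalBlock M G) W
      rw [hWB, hWtot] at h
      rw [hZ]
      omega
    have hnn : ∀ η : IrrCharacter G, 0 ≤ W η := fun η => by
      have : (0 : ℝ) ≤ (W η : ℝ) := by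
        rw [hWnn]; exact Finset.sum_nonneg fun _ _ => Complex.normSq_nonneg _
      exact_mod_cast this
    have h1 := (Finset.sum_eq_zero_iff_of_nonneg fun η _ => hnn η).1 h0 χ hχ
    have h2 := hWnn χ
    rw [h1, Int.cast_zero] at h2
    exact Complex.normSq_eq_zero.1 ((Finset.sum_eq_zero_iff_of_nonneg
      fun _ _ => Complex.normSq_nonneg _).1 h2.symm y (Finset.mem_erase.2 ⟨hy, Finset.mem_univ _⟩))
  refine ⟨R, S.exc, Z, A, D, ⟨?_, ht, hdegE, ?_, ?_, ?_⟩, ?_, hdeg, ?_⟩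
  · intro F
    rw [← Finset.sum_filter_add_sum_filter_not (Finset.univ : Finset (IrrCharacter G))
      (· ∈ principalBlock M G) F, S.sum_split, ← Finset.add_sum_erase _ _ hpr]
  · intro χ hχ
    have h := AbelianFrob.bcoef_eq P χ 1
    rw [← Finset.add_sum_erase _ _ (Finset.mem_univ (1 : (P : Subgroup G))),
      Finset.sum_eq_zero (fun y hy => by rw [hZvan χ hχ y (Finset.mem_erase.1 hy).1, zero_mul]),
      add_zero, OneMemClass.coe_one, hP, irr_one_eq_charDegree] at h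
    simp only [inv_one, map_one, Units.val_one, mul_one] at h
    have h' : ((charDegree (χ : G → ℂ) : ℤ) : ℂ) = ((11 * AbelianFrob.bcoef P χ 1 : ℤ) : ℂ) := by
      push_cast
      rw [h]
      push_cast
      ring
    exact Int.natCast_dvd_natCast.1 ⟨_, Int.cast_inj.1 h'⟩
  · intro χ hχ g hg
    obtain ⟨ψ, hψ, rfl⟩ := S.mem_exc.1 hχ
    have h := S.regular_rel hM hψ hg
    rw [← Finset.add_sum_erase _ _ hpr, hA1, ht, ← hR] at h
    have hc' : ((2 : ℕ) : ℂ) * (d : ℂ) - (δ : ℂ) = -1 := by exact_mod_cast hcneg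
    rw [hc'] at h
    simp only [principalIrr, Int.cast_one, one_mul] at h
    linear_combination -h
  · intro χ hχ g hg
    have hpg : IsPGroup 11 (Subgroup.zpowers g) :=
      IsPGroup.of_card (n := 1) (by rw [Nat.card_zpowers, hg, pow_one])
    obtain ⟨Q, hQ⟩ := hpg.exists_le_sylow
    obtain ⟨t, rfl⟩ := MulAction.exists_smul_eq G P Q
    have hgm : g ∈ ((t • P : Sylow 11 G) : Subgroup G) := hQ (Subgroup.mem_zpowers g)
    rw [Sylow.coe_subgroup_smul] at hgm
    obtain ⟨y, hy, rfl⟩ := hgm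
    show (χ : G → ℂ) (t * y * t⁻¹) = 0
    rw [irr_isClassFunction χ y t]
    refine hZvan χ hχ ⟨y, hy⟩ fun h => ?_
    rw [show y = 1 from congrArg Subtype.val h] at hg
    simp at hg
  · intro Q
    obtain ⟨t, rfl⟩ := MulAction.exists_smul_eq G P Q
    rcases eleven_cases hG (t • P) with ⟨-, h⟩ | ⟨-, h⟩
    · exact h
    · exfalso
      have e := fun R : Sylow 11 G => Small.card_normalizer_mul_card_sylow R
      have h1 := Small.card_centralizer_mul_relIndex ((P : Subgroup G))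
      have h2 := Small.card_centralizer_mul_relIndex (((t • P : Sylow 11 G) : Subgroup G))
      have hN : Nat.card (AbelianFrob.NP P) = Nat.card (AbelianFrob.NP (t • P)) :=
        Nat.eq_of_mul_eq_mul_right Nat.card_pos ((e P).trans (e (t • P)).symm)
      rcases eleven_cases hG (t • P) with ⟨-, h'⟩ | ⟨h', -⟩
      · omega
      · change Nat.card (AbelianFrob.CP P) * (AbelianFrob.CP P).relIndex (AbelianFrob.NP P) =
          Nat.card (AbelianFrob.NP P) at h1
        change Nat.card (AbelianFrob.CP (t • P)) *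
          (AbelianFrob.CP (t • P)).relIndex (AbelianFrob.NP (t • P)) =
          Nat.card (AbelianFrob.NP (t • P)) at h2
        rw [hC, ← hm, hm5] at h1
        rw [h, h'] at h2
        omega
  · rcases hfin with ⟨h1, h2, h3, h4, -⟩ | ⟨h1, h2, h3, h4, -⟩
    · exact Or.inl ⟨h4, h1, h2, h3⟩
    · exact Or.inr ⟨h4, h1, h2, h3⟩

end CfsgLib.Order7920
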