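import Cfsg.Agent.Lib.Order7920.Five

/-!
# The character degrees of a simple group of order 7920
-/

set_option autoImplicit false
set_option linter.style.haveILetI false
set_option linter.unusedSectionVars false
open Cfsg CfsgLib.Characters CfsgLib.CharCorr
open scoped ComplexConjugate

namespace CfsgLib.Order7920

universe u

variable {G : Type u} [Group G] [Fintype G] [IsSimpleGroup G]

theorem pair_cases {a b va vb : ℤ} (ha : 0 < a) (ha6 : a ≤ 6) (hb : 0 < b) (hb6 : b ≤ 6)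
    (hva : va = 1 ∨ va = -1) (hvb : vb = 1 ∨ vb = -1) (h1 : (5 : ℤ) ∣ a - va) (h2 : (5 : ℤ) ∣ b - vb)
    (h : a * va + b * vb = -3) : (a = 1 ∧ b = 4) ∨ (a = 4 ∧ b = 1) := by
  rcases hva with rfl | rfl <;> rcases hvb with rfl | rfl <;> omega

open scoped Classical in
/-- The degrees: `1, 10, 10, 10, 11, 16, 16, 44, 45, 55`. -/
theorem sum_degrees (hG : Nat.card G = 7920) :
    ∀ F : ℕ → ℕ, ∑ χ : IrrCharacter G, F (charDegree (χ : G → ℂ)) =
      F 1 + 3 * F 10 + F 11 + 2 * F 16 + F 44 + F 45 + F 55 := by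
  classical
  haveI h5f : Fact (Nat.Prime 5) := ⟨by norm_num⟩
  haveI h11f : Fact (Nat.Prime 11) := ⟨by norm_num⟩
  have hnc := not_comm hG
  obtain ⟨R, E, Z, A, D, hB, hC11, hdeg, hopt⟩ := exists_block hG
  obtain ⟨Q⟩ : Nonempty (Sylow 5 G) := inferInstance
  have hQ := card_sylow_five hG Q
  set Ra := R.filter (fun χ : IrrCharacter G => charDegree (χ : G → ℂ) = 10) with hRa
  set Rb := R.filter (fun χ : IrrCharacter G => charDegree (χ : G → ℂ) = 12) with hRb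
  set Rc := R.filter (fun χ : IrrCharacter G => charDegree (χ : G → ℂ) = 45) with hRc
  have hmem : ∀ (k : ℕ) (χ : IrrCharacter G),
      χ ∈ R.filter (fun χ : IrrCharacter G => charDegree (χ : G → ℂ) = k) → charDegree (χ : G → ℂ) = k :=
    fun k χ h => (Finset.mem_filter.1 h).2
  have hRsum : ∀ H : IrrCharacter G → ℤ,
      ∑ χ ∈ R, H χ = ∑ χ ∈ Ra, H χ + ∑ χ ∈ Rb, H χ + ∑ χ ∈ Rc, H χ := by
    intro H
    rw [hRa, hRb, hRc, Finset.sum_filter, Finset.sum_filter, Finset.sum_filter,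
      ← Finset.sum_add_distrib, ← Finset.sum_add_distrib]
    refine Finset.sum_congr rfl fun χ hχ => ?_
    rcases hdeg χ hχ with ⟨h, -⟩ | ⟨h, -⟩ | ⟨h, -⟩ <;> simp [h]
  have hsplit : ∀ H : IrrCharacter G → ℤ,
      ∑ χ, H χ = H (principalIrr G) + ∑ χ ∈ R, H χ + ∑ χ ∈ E, H χ + ∑ χ ∈ Z, H χ := by
    intro H
    have h := hB.split fun χ => (H χ : ℂ)
    exact_mod_cast h
  have hpr1 : charDegree ((principalIrr G : IrrCharacter G) : G → ℂ) = 1 := by
    simp [principalIrr, charDegree]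
  have hEne : ∀ χ ∈ E, χ ≠ principalIrr G := by
    intro χ hχ h
    have h1 := hB.degE χ hχ
    rw [h, hpr1] at h1
    rcases hopt with ⟨h', -⟩ | ⟨h', -⟩ <;> omega
  -- the centraliser of a Sylow 5-subgroup
  have hc5 : 5 ∣ Nat.card (AbelianFrob.CP Q) := prime_dvd_card_centralizer Q hQ
  have hc11 := not_eleven_dvd hG hC11 Q
  have hc2 : ¬ 2 ∣ Nat.card (AbelianFrob.CP Q) := by
    intro hd
    haveI h2f : Fact (Nat.Prime 2) := ⟨Nat.prime_two⟩
    obtain ⟨w, hw⟩ := exists_prime_orderOf_dvd_card' (G := AbelianFrob.CP Q) 2 hd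
    rw [← Subgroup.orderOf_coe] at hw
    rcases hopt with ⟨hD, -, hb, -⟩ | ⟨hD, -⟩
    · obtain ⟨y, hy⟩ := exists_prime_orderOf_dvd_card' (G := (Q : Subgroup G)) 5 hQ.symm.dvd
      rw [← Subgroup.orderOf_coe] at hy
      have ho : orderOf ((w : G) * y) = 10 := by
        rw [Commute.orderOf_mul_eq_mul_orderOf_of_coprime
          (Subgroup.mem_centralizer_iff.1 w.2 y y.2).symm (by rw [hw, hy]; norm_num), hw, hy]
      obtain ⟨χ, hχ⟩ := Finset.card_pos.1 (lt_of_lt_of_eq Nat.two_pos hB.cardE.symm)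
      have h := hB.rel χ hχ ((w : G) * y) (by rw [ho]; norm_num)
      rw [vanish_two hG χ (by rw [hB.degE χ hχ, hD]) (by rw [ho]; norm_num),
        Finset.sum_eq_zero, add_zero] at h
      · exact zero_ne_one h
      · intro η hη
        have h5 : 5 ∣ charDegree (η : G → ℂ) := by
          rcases hdeg η hη with ⟨e, -⟩ | ⟨e, -⟩ | ⟨e, -⟩
          · rw [e]; norm_num
          · exfalso
            exact Finset.notMem_empty η (Finset.card_eq_zero.1 hb ▸ Finset.mem_filter.2 ⟨hη, e⟩)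
          · rw [e]; norm_num
        rw [vanish_five hG η h5 (by rw [ho]; norm_num), mul_zero]
    · obtain ⟨χ, hχ⟩ := Finset.card_pos.1 (lt_of_lt_of_eq Nat.two_pos hB.cardE.symm)
      have h := eq_one_of_degree_prime Q hQ hnc (hEne χ hχ) ((hB.degE χ hχ).trans hD)
        (fun g hg => vanish_five hG χ (by rw [hB.degE χ hχ, hD]) hg) w.2 (by rw [hw]; norm_num)
      rw [h, orderOf_one] at hw
      omega
  obtain ⟨hC5, he4⟩ : Nat.card (AbelianFrob.CP Q) = 5 ∧
      (AbelianFrob.CP Q).relIndex (AbelianFrob.NP Q) = 4 := by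
    have hd : Nat.card (AbelianFrob.CP Q) ∣ 45 := by
      have h : Nat.card (AbelianFrob.CP Q) ∣ 176 * 45 := by
        have := Subgroup.card_subgroup_dvd_card (AbelianFrob.CP Q)
        rwa [hG] at this
      refine Nat.Coprime.dvd_of_dvd_mul_left ?_ h
      rw [show (176 : ℕ) = 2 ^ 4 * 11 by norm_num]
      exact Nat.Coprime.mul_right
        (((Nat.prime_two.coprime_iff_not_dvd).2 hc2).symm.pow_right 4)
        ((((show Nat.Prime 11 by norm_num)).coprime_iff_not_dvd).2 hc11).symm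
    have hdm := Nat.mem_divisors.2 ⟨hd, (by norm_num : (45 : ℕ) ≠ 0)⟩
    rw [show Nat.divisors 45 = {1, 3, 5, 9, 15, 45} by decide +kernel] at hdm
    simp only [Finset.mem_insert, Finset.mem_singleton] at hdm
    obtain ⟨e, he1, hed, -, heN, hen⟩ := Small.sylow_prime_order_data hnc Q hQ
    have hrel := Small.card_centralizer_mul_relIndex (Q : Subgroup G)
    rw [← heN] at hrel
    have hre : (AbelianFrob.CP Q).relIndex (AbelianFrob.NP Q) = e :=
      Nat.eq_of_mul_eq_mul_left Nat.card_pos hrel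
    rw [hG] at hen
    change Nat.card (AbelianFrob.CP Q) * e * _ = _ at hen
    have hmod : Nat.card (Sylow 5 G) % 5 = 1 := card_sylow_modEq_one 5 G
    have he2 : e = 2 ∨ e = 4 := by
      have := Nat.le_of_dvd (by norm_num) hed
      interval_cases e <;> simp_all
    rcases hdm with h | h | h | h | h | h <;> rcases he2 with rfl | rfl <;> rw [h] at hen hc5 <;>
      first | exact ⟨h, hre⟩ | omega
  obtain ⟨y, v, hy, hv, hvmod, hvz, hvsq, hvdot⟩ := five_values hG Q hC5 he4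
  have hv1 : v (principalIrr G) = 1 := by
    have h := hv (principalIrr G)
    simp only [principalIrr] at h
    exact_mod_cast h.symm
  rw [hsplit, hv1] at hvsq
  rcases hopt with ⟨hD, ha, hb, hc⟩ | ⟨hD, ha, hb, hc⟩
  swap
  · exfalso
    rw [hRsum] at hvsq
    have hb4 : ∀ χ ∈ Rb, (4 : ℤ) ≤ v χ ^ 2 := by
      intro χ hχ
      have h := hvmod χ
      rw [hmem 12 χ hχ] at h
      rcases (show v χ ≤ -2 ∨ 2 ≤ v χ by omega) with h' | h' <;> nlinarith
    have h8 := Finset.sum_le_sum hb4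
    rw [Finset.sum_const, hb] at h8
    simp only [nsmul_eq_mul] at h8
    have e1 : 0 ≤ ∑ χ ∈ Ra, v χ ^ 2 := Finset.sum_nonneg fun _ _ => sq_nonneg _
    have e2 : 0 ≤ ∑ χ ∈ Rc, v χ ^ 2 := Finset.sum_nonneg fun _ _ => sq_nonneg _
    have e3 : 0 ≤ ∑ χ ∈ E, v χ ^ 2 := Finset.sum_nonneg fun _ _ => sq_nonneg _
    have e4 : 0 ≤ ∑ χ ∈ Z, v χ ^ 2 := Finset.sum_nonneg fun _ _ => sq_nonneg _
    push_cast at h8
    linarith
  have hR0 : ∀ χ ∈ R, v χ = 0 := by
    intro χ hχ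
    refine hvz χ ?_
    rcases hdeg χ hχ with ⟨h, -⟩ | ⟨h, -⟩ | ⟨h, -⟩
    · rw [h]; norm_num
    · exfalso
      exact Finset.notMem_empty χ (Finset.card_eq_zero.1 hb ▸ Finset.mem_filter.2 ⟨hχ, h⟩)
    · rw [h]; norm_num
  have hE1 : ∀ χ ∈ E, v χ = 1 := by
    intro χ hχ
    have h := hB.rel χ hχ y (by rw [hy]; norm_num)
    rw [Finset.sum_eq_zero (fun η hη => by rw [hv η, hR0 η hη, Int.cast_zero, mul_zero]), add_zero,
      hv χ] at h
    exact_mod_cast h
  have hfR : ∀ H : IrrCharacter G → ℤ, ∀ c₁ c₂ : ℤ,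
      (∀ χ : IrrCharacter G, charDegree (χ : G → ℂ) = 10 → χ ∈ R → H χ = c₁) →
      (∀ χ : IrrCharacter G, charDegree (χ : G → ℂ) = 45 → χ ∈ R → H χ = c₂) →
      ∑ χ ∈ R, H χ = 3 * c₁ + c₂ := by
    intro H c₁ c₂ h₁ h₂
    rw [hRsum, Finset.card_eq_zero.1 hb, Finset.sum_empty,
      Finset.sum_congr rfl ((fun χ hχ => h₁ χ (hmem 10 χ hχ) (Finset.mem_filter.1 hχ).1) :
        ∀ χ ∈ Ra, H χ = c₁),
      Finset.sum_congr rfl ((fun χ hχ => h₂ χ (hmem 45 χ hχ) (Finset.mem_filter.1 hχ).1) :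
        ∀ χ ∈ Rc, H χ = c₂)]
    simp [ha, hc]
  have hfE : ∀ H : IrrCharacter G → ℤ, ∀ c : ℤ, (∀ χ ∈ E, H χ = c) → ∑ χ ∈ E, H χ = 2 * c := by
    intro H c h
    rw [Finset.sum_congr rfl h]
    simp [hB.cardE]
  rw [hfR (fun χ => v χ ^ 2) 0 0 (fun χ _ h => by simp [hR0 χ h]) (fun χ _ h => by simp [hR0 χ h]),
    hfE (fun χ => v χ ^ 2) 1 (fun χ h => by simp [hE1 χ h])] at hvsq
  rw [hsplit, hv1, hpr1, hfR (fun χ => (charDegree (χ : G → ℂ) : ℤ) * v χ) 0 0
      (fun χ _ h => by simp [hR0 χ h]) (fun χ _ h => by simp [hR0 χ h]),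
    hfE (fun χ => (charDegree (χ : G → ℂ) : ℤ) * v χ) 16
      (fun χ h => by simp [hE1 χ h, hB.degE χ h, hD])] at hvdot
  have hdeg2 : ∑ χ : IrrCharacter G, (charDegree (χ : G → ℂ) : ℤ) ^ 2 = 7920 := by
    have h := Chars17.natSum_sq_degrees (G := G)
    rw [hG] at h
    exact_mod_cast h
  rw [hsplit, hpr1, hfR (fun χ => (charDegree (χ : G → ℂ) : ℤ) ^ 2) 100 2025
      (fun χ e _ => by simp [e]) (fun χ e _ => by simp [e]),
    hfE (fun χ => (charDegree (χ : G → ℂ) : ℤ) ^ 2) 256 (fun χ h => by simp [hB.degE χ h, hD])]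
    at hdeg2
  -- outside the principal 11-block
  let k : IrrCharacter G → ℤ := fun χ => ((charDegree (χ : G → ℂ) / 11 : ℕ) : ℤ)
  have hk : ∀ χ ∈ Z, (charDegree (χ : G → ℂ) : ℤ) = 11 * k χ := by
    intro χ hχ
    obtain ⟨c, hc⟩ := hB.degZ χ hχ
    simp only [k, hc, Nat.mul_div_cancel_left c (by norm_num : 0 < 11)]
    push_cast
    rfl
  rw [Finset.sum_congr rfl ((fun χ hχ => by rw [hk χ hχ]; ring) :
    ∀ χ ∈ Z, (charDegree (χ : G → ℂ) : ℤ) ^ 2 = 121 * k χ ^ 2), ← Finset.mul_sum] at hdeg2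
  rw [Finset.sum_congr rfl ((fun χ hχ => by rw [hk χ hχ]; ring) :
    ∀ χ ∈ Z, (charDegree (χ : G → ℂ) : ℤ) * v χ = 11 * (k χ * v χ)), ← Finset.mul_sum] at hvdot
  have hsq42 : ∑ χ ∈ Z, k χ ^ 2 = 42 := by push_cast at hdeg2; linarith
  have hdot : ∑ χ ∈ Z, k χ * v χ = -3 := by push_cast at hvdot; linarith
  have hv2 : ∑ χ ∈ Z, v χ ^ 2 = 2 := by linarith
  have hkpos : ∀ χ ∈ Z, 0 < k χ := fun χ hχ => by
    have := hk χ hχ
    have := Chars17.irrDegree_pos χ
    omega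
  have hk6 : ∀ χ ∈ Z, k χ ≤ 6 := fun χ hχ => by
    have h := Finset.single_le_sum (f := fun η => k η ^ 2) (fun η _ => sq_nonneg _) hχ
    rw [hsq42] at h
    nlinarith
  have hkv : ∀ χ ∈ Z, (5 : ℤ) ∣ k χ - v χ := fun χ hχ => by
    have h := hvmod χ
    rw [hk χ hχ] at h
    omega
  set T := Z.filter (fun χ : IrrCharacter G => v χ ≠ 0) with hT
  set U := Z.filter (fun χ : IrrCharacter G => ¬ v χ ≠ 0) with hU
  have hTU : ∀ H : IrrCharacter G → ℤ, ∑ χ ∈ Z, H χ = ∑ χ ∈ T, H χ + ∑ χ ∈ U, H χ :=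
    fun H => (Finset.sum_filter_add_sum_filter_not _ _ _).symm
  have hU0 : ∀ χ ∈ U, v χ = 0 := fun χ hχ => not_ne_iff.1 (Finset.mem_filter.1 hχ).2
  have hvT : ∑ χ ∈ T, v χ ^ 2 = 2 := by
    rw [hTU, Finset.sum_eq_zero (s := U) fun χ hχ => by rw [hU0 χ hχ]; rfl, add_zero] at hv2
    exact hv2
  have hT1 : ∀ χ ∈ T, 1 ≤ v χ ^ 2 := fun χ hχ => by
    have := sq_pos_of_ne_zero (Finset.mem_filter.1 hχ).2
    omega
  have hTone : ∀ χ ∈ T, v χ = 1 ∨ v χ = -1 := fun χ hχ => by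
    have h := Finset.single_le_sum (f := fun η => v η ^ 2) (fun η _ => sq_nonneg _) hχ
    rw [hvT] at h
    have h1 := (Finset.mem_filter.1 hχ).2
    have h3 : v χ < 2 := by nlinarith
    have h4 : -2 < v χ := by nlinarith
    omega
  have hTcard : T.card = 2 := by
    rw [Finset.sum_congr rfl ((fun χ hχ => by rcases hTone χ hχ with h | h <;> rw [h] <;> norm_num) :
      ∀ χ ∈ T, v χ ^ 2 = (1 : ℤ))] at hvT
    simp only [Finset.sum_const, nsmul_eq_mul, mul_one] at hvT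
    exact_mod_cast hvT
  obtain ⟨a, b, hab, hTab⟩ := Finset.card_eq_two.1 hTcard
  have haT : a ∈ T := by simp [hTab]
  have hbT : b ∈ T := by simp [hTab]
  have hTZ : ∀ χ ∈ T, χ ∈ Z := fun χ hχ => (Finset.mem_filter.1 hχ).1
  have hdot2 : k a * v a + k b * v b = -3 := by
    rw [hTU, hTab, Finset.sum_pair hab,
      Finset.sum_eq_zero (s := U) fun χ hχ => by rw [hU0 χ hχ, mul_zero], add_zero] at hdot
    exact hdot
  have hpair := pair_cases (hkpos a (hTZ a haT)) (hk6 a (hTZ a haT)) (hkpos b (hTZ b hbT))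
    (hk6 b (hTZ b hbT)) (hTone a haT) (hTone b hbT) (hkv a (hTZ a haT)) (hkv b (hTZ b hbT)) hdot2
  have hab17 : k a ^ 2 + k b ^ 2 = 17 := by
    rcases hpair with ⟨h, h'⟩ | ⟨h, h'⟩ <;> rw [h, h'] <;> norm_num
  have hU5 : ∀ χ ∈ U, k χ = 5 := fun χ hχ => by
    have hZ := (Finset.mem_filter.1 hχ).1
    have := hkv χ hZ
    rw [hU0 χ hχ] at this
    have := hkpos χ hZ
    have := hk6 χ hZ
    omega
  have hUcard : U.card = 1 := by
    rw [hTU, hTab, Finset.sum_pair hab, hab17,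
      Finset.sum_congr rfl ((fun χ hχ => by rw [hU5 χ hχ]; norm_num) :
        ∀ χ ∈ U, k χ ^ 2 = (25 : ℤ))] at hsq42
    simp only [Finset.sum_const, nsmul_eq_mul] at hsq42
    omega
  intro F
  have h := hsplit fun χ => (F (charDegree (χ : G → ℂ)) : ℤ)
  rw [hpr1, hfR _ (F 10) (F 45) (fun χ e _ => by rw [e]) (fun χ e _ => by rw [e]),
    hfE _ (F 16) (fun χ e => by rw [hB.degE χ e, hD]), hTU, hTab, Finset.sum_pair hab,
    Finset.sum_congr rfl ((fun χ hχ => by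
      have e := hk χ (Finset.mem_filter.1 hχ).1
      rw [hU5 χ hχ] at e
      rw [show charDegree (χ : G → ℂ) = 55 by omega]) :
      ∀ χ ∈ U, (F (charDegree (χ : G → ℂ)) : ℤ) = F 55)] at h
  simp only [Finset.sum_const, nsmul_eq_mul, hUcard, Nat.cast_one, one_mul] at h
  have ea := hk a (hTZ a haT)
  have eb := hk b (hTZ b hbT)
  rcases hpair with ⟨h1, h2⟩ | ⟨h1, h2⟩ <;> rw [h1] at ea <;> rw [h2] at eb
  · rw [show charDegree (a : G → ℂ) = 11 by omega, show charDegree (b : G → ℂ) = 44 by omega] at h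
    rw [← Nat.cast_sum] at h
    omega
  · rw [show charDegree (a : G → ℂ) = 44 by omega, show charDegree (b : G → ℂ) = 11 by omega] at h
    rw [← Nat.cast_sum] at h
    omega

end CfsgLib.Order7920
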