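import Mathlib
import Cfsg.Agent.Lib.Order7920.Edge
import Cfsg.Agent.Lib.Involutions.Transfer
import Cfsg.Agent.Lib.Transfer.Basic

/-!
There is no group of order `45 * 11 * 2^s` (`s = 2, 3`) with 45 Sylow 11-subgroups, no subgroup of
index 2, faithful on its Sylow 11-subgroups, in which an involution centralises a Sylow 11.
-/

set_option autoImplicit false

namespace CfsgLib.Order7920

open Subgroup

/-- A four group inside a group of exponent two. -/
def fourGroup {H : Type*} [Group H] (a b : H) (ha : a * a = 1) (hb : b * b = 1)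
    (hab : a * b = b * a) : Subgroup H where
  carrier := {1, a, b, a * b}
  one_mem' := Or.inl rfl
  inv_mem' := by
    have ha' : a⁻¹ = a := inv_eq_of_mul_eq_one_right ha
    have hb' : b⁻¹ = b := inv_eq_of_mul_eq_one_right hb
    intro x hx
    simp only [Set.mem_insert_iff, Set.mem_singleton_iff] at hx ⊢
    rcases hx with rfl | rfl | rfl | rfl <;> simp [ha', hb', hab]
  mul_mem' := by
    intro x y hx hy
    have ha2 : ∀ t, a * (a * t) = t := fun t => by rw [← mul_assoc, ha, one_mul]
    have hb2 : ∀ t, b * (b * t) = t := fun t => by rw [← mul_assoc, hb, one_mul]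
    have hba : ∀ t, b * (a * t) = a * (b * t) := fun t => by rw [← mul_assoc, ← hab, mul_assoc]
    simp only [Set.mem_insert_iff, Set.mem_singleton_iff] at hx hy ⊢
    rcases hx with rfl | rfl | rfl | rfl <;> rcases hy with rfl | rfl | rfl | rfl <;>
      simp [mul_assoc, ha, hb, ha2, hb2, hba, hab.symm]

variable {G : Type*} [Group G] [Finite G]

omit [Finite G] in
/-- A Sylow subgroup normalising another one equals it. -/
theorem sylow_eq_of_le_normalizer {p : ℕ} [Fact p.Prime] (P Q : Sylow p G)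
    (h : (P : Subgroup G) ≤ normalizer ((Q : Subgroup G) : Set G)) : P = Q := by
  have hpq : IsPGroup p ((P : Subgroup G) ⊔ Q : Subgroup G) :=
    P.isPGroup'.to_sup_of_normal_right' Q.isPGroup' h
  exact Sylow.ext ((P.is_maximal' hpq le_sup_left).symm.trans (Q.is_maximal' hpq le_sup_right))

theorem no_index_two_sign (hidx : ∀ L : Subgroup G, L.index ≠ 2) {α : Type*} [Fintype α]
    [DecidableEq α] (φ : G →* Equiv.Perm α) (g : G) : Equiv.Perm.sign (φ g) = 1 := by
  set f := Equiv.Perm.sign.comp φ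
  rcases Int.units_eq_one_or (f g) with h | h
  · exact h
  · exfalso
    apply hidx f.ker
    have hd : f.ker.index ∣ 2 := by
      rw [index_ker]
      exact (card_subgroup_dvd_card _).trans (by simp [Nat.card_eq_fintype_card])
    refine (Nat.prime_two.eq_one_or_self_of_dvd _ hd).resolve_left fun h1 => ?_
    have : g ∈ f.ker := index_eq_one.mp h1 ▸ mem_top g
    rw [MonoidHom.mem_ker, h] at this
    exact absurd this (by decide)

theorem inner (s : ℕ) (hs : s = 2 ∨ s = 3) (hcard : Nat.card G = 45 * (11 * 2 ^ s))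
    (hn : Nat.card (Sylow 11 G) = 45) (hidx : ∀ L : Subgroup G, L.index ≠ 2)
    (hfaith : ∀ z : G, (∀ P : Sylow 11 G, z ∈ normalizer ((P : Subgroup G) : Set G)) → z = 1)
    (P : Sylow 11 G) (hC : 2 ∣ Nat.card (centralizer ((P : Subgroup G) : Set G))) : False := by
  classical
  have h11p : Nat.Prime 11 := by norm_num
  have := Fact.mk h11p
  have := Fact.mk Nat.prime_two
  have hcard' : Nat.card G = 495 * 2 ^ s := by rw [hcard]; ring
  set N := normalizer ((P : Subgroup G) : Set G) with hN
  set C := centralizer ((P : Subgroup G) : Set G) with hCdef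
  have hNcard : Nat.card N = 11 * 2 ^ s := by
    have h := N.card_mul_index
    rw [show N.index = 45 from P.card_eq_index_normalizer.symm.trans hn, hcard] at h
    omega
  have hCN : C ≤ N := centralizer_le_normalizer _
  have hP11 : Nat.card (P : Subgroup G) = 11 := by
    have h := P.card_eq_multiplicity
    have hf : (Nat.card G).factorization 11 = 1 := by
      rw [hcard, show 45 * (11 * 2 ^ s) = 11 * (45 * 2 ^ s) by ring,
        Nat.factorization_mul (by norm_num) (by positivity), Finsupp.add_apply,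
        h11p.factorization_self, Nat.factorization_eq_zero_of_not_dvd]
      rcases hs with rfl | rfl <;> norm_num
    rw [h, hf, pow_one]
  -- a Sylow 2-subgroup inside the normaliser
  obtain ⟨T⟩ : Nonempty (Sylow 2 N) := inferInstance
  set S₀ := ((T : Subgroup N).map N.subtype : Subgroup G)
  have hS₀N : S₀ ≤ N := Subgroup.map_subtype_le _
  have hS₀card : Nat.card S₀ = 2 ^ s := by
    rw [Subgroup.card_map_of_injective N.subtype_injective, T.card_eq_multiplicity, hNcard,
      Nat.factorization_mul (by norm_num) (by positivity), Finsupp.add_apply,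
      Nat.factorization_eq_zero_of_not_dvd (by norm_num), zero_add,
      Nat.Prime.factorization_pow Nat.prime_two, Finsupp.single_eq_same]
  have hS₀idx : ¬ 2 ∣ S₀.index := by
    have h := S₀.card_mul_index
    rw [hS₀card, hcard', Nat.mul_comm 495] at h
    rw [Nat.eq_of_mul_eq_mul_left (by positivity) h]
    norm_num
  set S : Sylow 2 G := (IsPGroup.of_card hS₀card).toSylow hS₀idx
  have hScoe : (S : Subgroup G) = S₀ := rfl
  -- an involution of `S` centralising `P`
  set D := C ⊓ S₀
  have hnormC : N ≤ normalizer (C : Set G) := by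
    intro g hg
    rw [mem_normalizer_iff]
    intro x
    simp only [hCdef, mem_centralizer_iff, SetLike.mem_coe]
    rw [hN, mem_normalizer_iff] at hg
    constructor
    · intro hx y hy
      obtain ⟨y', rfl⟩ : ∃ y', y = g * y' * g⁻¹ := ⟨g⁻¹ * y * g, by group⟩
      have := hx y' ((hg y').2 hy)
      calc g * y' * g⁻¹ * (g * x * g⁻¹) = g * (y' * x) * g⁻¹ := by group
        _ = g * (x * y') * g⁻¹ := by rw [this]
        _ = g * x * g⁻¹ * (g * y' * g⁻¹) := by group
    · intro hx y hy
      have := hx (g * y * g⁻¹) ((hg y).1 hy)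
      calc y * x = g⁻¹ * ((g * y * g⁻¹) * (g * x * g⁻¹)) * g := by group
        _ = g⁻¹ * ((g * x * g⁻¹) * (g * y * g⁻¹)) * g := by rw [this]
        _ = x * y := by group
  have hD2 : 2 ∣ Nat.card D := by
    obtain ⟨c, hc⟩ := exists_prime_orderOf_dvd_card' 2 hC
    have hcN : (c : G) ∈ N := hCN c.2
    obtain ⟨T', hT'⟩ := IsPGroup.exists_le_sylow (p := 2) (P := zpowers (⟨c, hcN⟩ : N))
      (IsPGroup.of_card (n := 1) (by
        rw [Nat.card_zpowers, Subgroup.orderOf_mk, Subgroup.orderOf_coe, hc, pow_one]))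
    obtain ⟨g, rfl⟩ := MulAction.exists_smul_eq N T T'
    have hmem : (⟨c, hcN⟩ : N) ∈ ((g • T : Sylow 2 N) : Subgroup N) := hT' (mem_zpowers _)
    rw [Sylow.coe_subgroup_smul, Subgroup.mem_pointwise_smul_iff_inv_smul_mem] at hmem
    have hd : (g : G)⁻¹ * c * g ∈ D := by
      refine ⟨?_, ⟨_, hmem, ?_⟩⟩
      · have := (mem_normalizer_iff.1 (inv_mem (hnormC g.2)) (c : G)).1 c.2
        simpa using this
      · simp [MulAut.smul_def, MulAut.conj_symm_apply]
    have ho : orderOf (⟨_, hd⟩ : D) = 2 := by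
      rw [Subgroup.orderOf_mk]
      have : (g : G)⁻¹ * c * g = MulAut.conj (g : G)⁻¹ (c : G) := by simp
      rw [this, MulEquiv.orderOf_eq, Subgroup.orderOf_coe, hc]
    exact ho ▸ orderOf_dvd_natCard _
  obtain ⟨z, hz⟩ : ∃ z : G, (z ∈ D ⊓ centralizer (S₀ : Set G)) ∧ orderOf z = 2 := by
    have hm := card_modEq_card_inf_centralizer (q := 2) (IsPGroup.of_card hS₀card)
      (R := D) (fun g hg => by
        have h1 := hnormC (hS₀N hg)
        have h2 := le_normalizer hg (H := S₀)
        rw [mem_normalizer_iff] at h1 h2 ⊢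
        exact fun x => and_congr (h1 x) (h2 x))
    have h2 : 2 ∣ Nat.card (D ⊓ centralizer (S₀ : Set G) : Subgroup G) :=
      Nat.modEq_zero_iff_dvd.1 (hm.symm.trans (Nat.modEq_zero_iff_dvd.2 hD2))
    obtain ⟨z, hz⟩ := exists_prime_orderOf_dvd_card' 2 h2
    exact ⟨z, z.2, (Subgroup.orderOf_coe z).trans hz⟩
  obtain ⟨⟨⟨hzC, hzS⟩, hzcS⟩, hz2⟩ := hz
  have hz1 : z ≠ 1 := fun h => by rw [h, orderOf_one] at hz2; norm_num at hz2
  have hzN : z ∈ N := hS₀N hzS
  have hzsq : z ^ 2 = 1 := by rw [← hz2]; exact pow_orderOf_eq_one z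
  have hzcent : ∀ w ∈ N, w * z = z * w := by
    have hle : N ≤ centralizer ({z} : Set G) := by
      have hP : (P : Subgroup G) ≤ N ⊓ centralizer ({z} : Set G) := fun x hx =>
        ⟨le_normalizer hx, mem_centralizer_singleton_iff.2 (mem_centralizer_iff.1 hzC x hx)⟩
      have hS : S₀ ≤ N ⊓ centralizer ({z} : Set G) := fun x hx =>
        ⟨hS₀N hx, mem_centralizer_singleton_iff.2 (mem_centralizer_iff.1 hzcS x hx)⟩
      have h1 := Subgroup.card_dvd_of_le hP
      have h2 := Subgroup.card_dvd_of_le hS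
      rw [hP11] at h1
      rw [hS₀card] at h2
      have hcop : Nat.Coprime 11 (2 ^ s) := Nat.Coprime.pow_right s (by norm_num)
      have h3 := Nat.le_of_dvd Nat.card_pos (hcop.mul_dvd_of_dvd_of_dvd h1 h2)
      rw [← hNcard] at h3
      exact (Subgroup.eq_of_le_of_card_ge inf_le_left h3).ge.trans inf_le_right
    exact fun w hw => mem_centralizer_singleton_iff.1 (hle hw)
  -- the action on the Sylow 11-subgroups
  have : Fintype (Sylow 11 G) := Fintype.ofFinite _
  set φ := MulAction.toPermHom G (Sylow 11 G)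
  set σ := φ z with hσ
  have hσapp : ∀ Q, σ Q = z • Q := fun Q => rfl
  have hσsq : σ ^ 2 = 1 := by rw [hσ, ← map_pow, hzsq, map_one]
  have hsupp4 : σ.support.card % 4 = 0 := by
    have hsign : Equiv.Perm.sign σ = 1 := no_index_two_sign hidx φ z
    rw [Equiv.Perm.sign_of_cycleType] at hsign
    have hall : ∀ k ∈ σ.cycleType, k = 2 := fun k hk => by
      have h1 := Equiv.Perm.two_le_of_mem_cycleType hk
      have h2 := Nat.le_of_dvd (by norm_num)
        ((Equiv.Perm.dvd_of_mem_cycleType hk).trans (orderOf_dvd_of_pow_eq_one hσsq))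
      omega
    have hsum : σ.cycleType.sum = 2 * Multiset.card σ.cycleType := by
      rw [Multiset.eq_replicate_card.2 hall, Multiset.sum_replicate, Multiset.card_replicate,
        smul_eq_mul, Nat.mul_comm]
    have hev := (neg_one_pow_eq_one_iff_even (by decide)).1 hsign
    rw [← Equiv.Perm.sum_cycleType]
    rw [Nat.even_iff] at hev
    omega
  -- fixed points modulo 11
  obtain ⟨x, hx⟩ : ∃ x : G, orderOf x = 11 ∧ zpowers x = (P : Subgroup G) := by
    obtain ⟨x, hx⟩ := exists_prime_orderOf_dvd_card' (G := (P : Subgroup G)) 11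
      (by rw [hP11])
    refine ⟨x, (Subgroup.orderOf_coe x).trans hx, Subgroup.eq_of_le_of_card_ge
      (zpowers_le.2 x.2) ?_⟩
    rw [Nat.card_zpowers, hP11, Subgroup.orderOf_coe, hx]
  have hxz : x * z = z * x := mem_centralizer_iff.1 hzC x (hx.2 ▸ mem_zpowers x)
  have hiff : ∀ Q, σ Q = Q ↔ σ (φ x Q) = φ x Q := fun Q => by
    show z • Q = Q ↔ z • x • Q = x • Q
    rw [smul_smul, ← hxz, ← smul_smul]
    exact (MulAction.injective x).eq_iff.symm
  set τ : Equiv.Perm {Q : Sylow 11 G // σ Q = Q} := (φ x).subtypePerm (fun Q => (hiff Q).symm)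
  have hτ : τ ^ 11 ^ 1 = 1 := by
    rw [pow_one, Equiv.Perm.subtypePerm_pow]
    ext Q
    simp [← map_pow, ← hx.1, pow_orderOf_eq_one]
  have hPfix : σ P = P := Sylow.smul_eq_iff_mem_normalizer.2 hzN
  have hcompl : τ.supportᶜ = {⟨P, hPfix⟩} := by
    ext Q
    simp only [Finset.mem_compl, Equiv.Perm.mem_support, not_not, Finset.mem_singleton]
    constructor
    · intro hQ
      have h' : x • (Q : Sylow 11 G) = Q := congrArg Subtype.val hQ
      refine Subtype.ext (sylow_eq_of_le_normalizer P Q.1 ?_).symm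
      rw [← hx.2, zpowers_le]
      exact Sylow.smul_eq_iff_mem_normalizer.1 h'
    · rintro rfl
      exact Subtype.ext (Sylow.smul_eq_iff_mem_normalizer.2
        (le_normalizer (hx.2 ▸ mem_zpowers x)))
  have hF11 : (Fintype.card {Q : Sylow 11 G // σ Q = Q}) % 11 = 1 := by
    have h := Equiv.Perm.card_compl_support_modEq hτ
    rw [hcompl, Finset.card_singleton] at h
    exact h.symm
  have hFcard : Fintype.card {Q : Sylow 11 G // σ Q = Q} + σ.support.card = 45 := by
    rw [Fintype.card_subtype, ← hn, Nat.card_eq_fintype_card, ← Finset.card_univ,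
      show σ.support = Finset.univ.filter fun Q => ¬ σ Q = Q from rfl,
      Finset.card_filter_add_card_filter_not]
  have honly : ∀ Q : Sylow 11 G, z • Q = Q → Q = P := by
    rcases (show Fintype.card {Q : Sylow 11 G // σ Q = Q} = 1 ∨
        Fintype.card {Q : Sylow 11 G // σ Q = Q} = 45 by omega) with h | h
    · intro Q hQ
      have := Fintype.card_le_one_iff_subsingleton.1 h.le
      exact congrArg Subtype.val (Subsingleton.elim (⟨Q, hQ⟩ : {Q // σ Q = Q}) ⟨P, hPfix⟩)
    · exfalso
      refine hz1 (hfaith z fun Q => Sylow.smul_eq_iff_mem_normalizer.1 ?_)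
      have h0 : σ.support = ∅ := Finset.card_eq_zero.1 (by omega)
      have := Finset.ext_iff.1 h0 Q
      simpa [Equiv.Perm.mem_support, hσapp] using this
  -- `z` is not conjugate to another element of `N`
  have hiso : ∀ g : G, g * z * g⁻¹ ∈ N → g * z * g⁻¹ = z := by
    intro g hg
    have h1 : (g * z * g⁻¹) • P = P := Sylow.smul_eq_iff_mem_normalizer.2 hg
    rw [mul_smul, mul_smul, ← eq_inv_smul_iff] at h1
    have h2 := honly _ h1
    rw [inv_smul_eq_iff] at h2
    have hgN : g ∈ N := Sylow.smul_eq_iff_mem_normalizer.1 h2.symm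
    rw [hzcent g hgN, mul_inv_cancel_right]
  have hisoS : ∀ g : G, g * z * g⁻¹ ∈ S₀ → g * z * g⁻¹ = z := fun g hg => hiso g (hS₀N hg)
  have hzQ : ∀ Q : Subgroup G, Q.relIndex S₀ = 2 → z ∈ Q := by
    intro Q hQ
    by_contra hz
    obtain ⟨M, -, hM, -⟩ := CfsgLib.Transfer.thompson_transfer S Q (by rwa [hScoe]) z hzsq
      (fun g hg => by rw [hScoe] at hg; rw [hisoS g hg]; exact hz)
    exact hidx M hM
  have hnotcyc : ¬ IsCyclic S₀ := fun h => by
    obtain ⟨L, hL⟩ := CfsgLib.Involutions.exists_index_two_of_cyclic_sylow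
      (by rw [hcard', Nat.even_iff]; rcases hs with rfl | rfl <;> norm_num) S (hScoe ▸ h)
    exact hidx L hL
  have hrel : ∀ Q : Subgroup G, Q ≤ S₀ → 2 * Nat.card Q = 2 ^ s → Q.relIndex S₀ = 2 := by
    intro Q hQ hc
    have h := relIndex_mul_relIndex ⊥ Q S₀ bot_le hQ
    rw [relIndex_bot_left, relIndex_bot_left, hS₀card, ← hc, Nat.mul_comm 2] at h
    exact Nat.eq_of_mul_eq_mul_left Nat.card_pos h
  obtain ⟨q, hqS, hq⟩ : ∃ q ∈ S₀, q * q ≠ 1 := by
    by_contra hall
    push Not at hall
    have hcomm : ∀ a ∈ S₀, ∀ b ∈ S₀, a * b = b * a := fun a ha b hb => by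
      have h1 := hall _ (mul_mem ha hb)
      have h2 : (a * b)⁻¹ = a * b := inv_eq_of_mul_eq_one_right h1
      rw [← h2, mul_inv_rev, inv_eq_of_mul_eq_one_right (hall a ha),
        inv_eq_of_mul_eq_one_right (hall b hb)]
    have hex : ∀ t : Finset G, t.card < 2 ^ s → ∃ a ∈ S₀, a ∉ t := by
      intro t ht
      by_contra hne
      push Not at hne
      have h1 : (S₀ : Set G).ncard ≤ (t : Set G).ncard := Set.ncard_le_ncard hne
      rw [Set.ncard_coe_finset] at h1
      have h2 : (S₀ : Set G).ncard = 2 ^ s := by rw [← Nat.card_coe_set_eq]; exact hS₀card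
      omega
    rcases hs with rfl | rfl
    · obtain ⟨a, ha, hat⟩ := hex {1, z} (lt_of_le_of_lt Finset.card_le_two (by norm_num))
      simp only [Finset.mem_insert, Finset.mem_singleton, not_or] at hat
      have hoa : orderOf a = 2 := orderOf_eq_prime (by rw [pow_two, hall a ha]) hat.1
      obtain ⟨k, hk⟩ := hzQ (zpowers a) (hrel _ (zpowers_le.2 ha) (by
        rw [Nat.card_zpowers, hoa]; norm_num))
      rcases Int.even_or_odd' k with ⟨j, rfl | rfl⟩
      · simp [zpow_mul, zpow_two, pow_two, hall a ha] at hk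
        exact hz1 hk.symm
      · simp [zpow_add, zpow_mul, zpow_two, pow_two, hall a ha] at hk
        exact hat.2 hk
    · obtain ⟨a, ha, hat⟩ := hex {1, z} (lt_of_le_of_lt Finset.card_le_two (by norm_num))
      obtain ⟨b, hb, hbt⟩ := hex {1, z, a, z * a}
        (lt_of_le_of_lt Finset.card_le_four (by norm_num))
      simp only [Finset.mem_insert, Finset.mem_singleton, not_or] at hat hbt
      set Q := fourGroup a b (hall a ha) (hall b hb) (hcomm a ha b hb)
      have hmem : ∀ y, y ∈ Q ↔ y = 1 ∨ y = a ∨ y = b ∨ y = a * b := fun y => Iff.rfl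
      have hQS : Q ≤ S₀ := fun y hy => by
        rcases (hmem y).1 hy with rfl | rfl | rfl | rfl
        exacts [one_mem _, ha, hb, mul_mem ha hb]
      have haa := hall a ha
      have hab1 : a * b ≠ 1 := fun h => hbt.2.2.1 (mul_left_cancel (a := a) (h.trans haa.symm))
      have hQc : Nat.card Q = 4 := by
        have : (Q : Set G) = (({1, a, b, a * b} : Finset G) : Set G) := by
          ext y; simp [hmem]
        have h' : Nat.card Q = (Q : Set G).ncard := Nat.card_coe_set_eq _
        rw [h', this, Set.ncard_coe_finset]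
        simp [Ne.symm hat.1, Ne.symm hbt.1, Ne.symm hab1, Ne.symm hbt.2.2.1, hbt.1, hat.1]
      rcases (hmem z).1 (hzQ Q (hrel Q hQS (by rw [hQc]; norm_num))) with h | h | h | h
      · exact hz1 h
      · exact hat.2 h.symm
      · exact hbt.2.1 h.symm
      · apply hbt.2.2.2
        rw [h, hcomm a ha b hb, mul_assoc, haa, mul_one]
  obtain ⟨i, hi⟩ : ∃ i, orderOf q = 2 ^ i := IsPGroup.iff_orderOf.1 (IsPGroup.of_card hS₀card)
    ⟨q, hqS⟩ |>.imp fun i hi => by rwa [Subgroup.orderOf_mk] at hi
  have hqd : orderOf q ∣ 2 ^ s := by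
    rw [← hS₀card, ← Nat.card_zpowers]
    exact Subgroup.card_dvd_of_le (zpowers_le.2 hqS)
  rw [hi, Nat.pow_dvd_pow_iff_le_right (by norm_num)] at hqd
  have hi2 : 2 ≤ i := by
    by_contra hlt
    apply hq
    have h2 : orderOf q ∣ 2 := hi ▸ (pow_dvd_pow 2 (show i ≤ 1 by omega)).trans (by norm_num)
    rw [← pow_two]; exact orderOf_dvd_iff_pow_eq_one.1 h2
  have his : i ≠ s := fun h => hnotcyc (isCyclic_iff_exists_orderOf_eq_natCard.2
    ⟨⟨q, hqS⟩, by rw [Subgroup.orderOf_mk, hi, hS₀card, h]⟩)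
  obtain ⟨rfl, rfl⟩ : i = 2 ∧ s = 3 := by omega
  have hQrel := hrel (zpowers q) (zpowers_le.2 hqS) (by rw [Nat.card_zpowers, hi]; norm_num)
  have hzq : z ∈ zpowers q := hzQ _ hQrel
  -- every involution of `S₀` is `z`
  have huniq : ∀ u ∈ S₀, orderOf u = 2 → u = z := by
    intro u hu hu2
    by_contra hne
    obtain ⟨M, -, hM, -⟩ := CfsgLib.Transfer.thompson_transfer S (zpowers q) (by rwa [hScoe]) u
      (by rw [← hu2]; exact pow_orderOf_eq_one u) (fun g _ hgQ => by
        have ho : orderOf (g * u * g⁻¹) = 2 := by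
          rw [show g * u * g⁻¹ = MulAut.conj g u from rfl, MulEquiv.orderOf_eq, hu2]
        have he := congrArg Subtype.val (CfsgLib.Involutions.involution_unique_of_cyclic
          (C := zpowers q) (a := ⟨_, hgQ⟩) (b := ⟨z, hzq⟩)
          (by rw [Subgroup.orderOf_mk, ho]) (by rw [Subgroup.orderOf_mk, hz2]))
        have hu' : g⁻¹ * z * g⁻¹⁻¹ = u := by
          rw [← show g * u * g⁻¹ = z from he]; group
        exact hne (hu'.symm.trans (hiso g⁻¹ (hu' ▸ hS₀N hu))))
    exact hidx M hM
  -- every involution fixes only one point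
  have hinv : ∀ a : G, orderOf a = 2 → ∀ Q Q' : Sylow 11 G, a • Q = Q → a • Q' = Q' → Q = Q' := by
    intro a ha Q Q' hQ hQ'
    obtain ⟨S', hS'⟩ := IsPGroup.exists_le_sylow (p := 2) (P := zpowers a)
      (IsPGroup.of_card (n := 1) (by rw [Nat.card_zpowers, ha, pow_one]))
    obtain ⟨g, hg⟩ := MulAction.exists_smul_eq G S' S
    have hmem : g * a * g⁻¹ ∈ S₀ := by
      rw [← hScoe, ← hg, Sylow.coe_subgroup_smul]
      exact ⟨a, hS' (mem_zpowers a), rfl⟩
    have he := huniq _ hmem (by
      rw [show g * a * g⁻¹ = MulAut.conj g a from rfl, MulEquiv.orderOf_eq, ha])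
    have key : ∀ R, a • R = R → g • R = P := fun R hR => honly _ (by
      rw [← he, smul_smul, inv_mul_cancel_right, mul_smul, hR])
    exact MulAction.injective g ((key Q hQ).trans (key Q' hQ').symm)
  obtain ⟨P', hP'⟩ : ∃ P' : Sylow 11 G, P' ≠ P := by
    by_contra h
    push Not at h
    have : Subsingleton (Sylow 11 G) := ⟨fun a b => (h a).trans (h b).symm⟩
    have := Nat.card_of_subsingleton P
    omega
  set N' := normalizer ((P' : Subgroup G) : Set G)
  obtain ⟨a, ha, ha1⟩ : ∃ a, a ∈ N ⊓ N' ∧ a ≠ 1 := by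
    by_contra h
    push Not at h
    have hbot : N ⊓ N' = ⊥ := (Subgroup.eq_bot_iff_forall _).2 h
    have h1 : N'.relIndex N ≤ N'.index := by
      rw [← relIndex_top_right N']
      exact relIndex_le_of_le_right le_top (by simp [index_ne_zero_of_finite])
    rw [← inf_relIndex_right, inf_comm, hbot, relIndex_bot_left, hNcard,
      show N'.index = 45 from P'.card_eq_index_normalizer.symm.trans hn] at h1
    norm_num at h1
  have hfix : ∀ b ∈ zpowers a, b • P = P ∧ b • P' = P' := fun b hb =>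
    ⟨Sylow.smul_eq_iff_mem_normalizer.2 ((zpowers_le.2 ha.1 : zpowers a ≤ N) hb),
      Sylow.smul_eq_iff_mem_normalizer.2 ((zpowers_le.2 ha.2 : zpowers a ≤ N') hb)⟩
  have hda : orderOf a ∣ 11 * 2 ^ 3 := by
    rw [← hNcard, ← Nat.card_zpowers]
    exact Subgroup.card_dvd_of_le (zpowers_le.2 ha.1)
  by_cases h11 : 11 ∣ orderOf a
  · obtain ⟨b, hbz, hb⟩ : ∃ b ∈ zpowers a, orderOf b = 11 :=
      ⟨a ^ (orderOf a / 11), pow_mem (mem_zpowers a) _,
        orderOf_pow_orderOf_div (orderOf_pos a).ne' h11⟩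
    obtain ⟨R, hR⟩ := IsPGroup.exists_le_sylow (p := 11) (P := zpowers b)
      (IsPGroup.of_card (n := 1) (by rw [Nat.card_zpowers, hb, pow_one]))
    have hR' : (R : Subgroup G) = zpowers b := (Subgroup.eq_of_le_of_card_ge hR (by
      rw [Nat.card_zpowers, hb, R.card_eq_multiplicity, ← P.card_eq_multiplicity, hP11])).symm
    have key : ∀ Q, b • Q = Q → R = Q := fun Q hQ => sylow_eq_of_le_normalizer R Q (by
      rw [hR', zpowers_le]; exact Sylow.smul_eq_iff_mem_normalizer.1 hQ)
    exact hP' ((key P' (hfix b hbz).2).symm.trans (key P (hfix b hbz).1))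
  · have hd2 : orderOf a ∣ 2 ^ 3 :=
      (Nat.Coprime.dvd_mul_left (((Nat.Prime.coprime_iff_not_dvd h11p).2 h11).symm)).1 hda
    have h2 : 2 ∣ orderOf a := by
      obtain ⟨k, hk, hk'⟩ := (Nat.dvd_prime_pow Nat.prime_two).1 hd2
      rcases Nat.eq_zero_or_pos k with rfl | hpos
      · exact absurd (orderOf_eq_one_iff.1 hk') ha1
      · exact hk' ▸ dvd_pow_self 2 hpos.ne'
    obtain ⟨b, hbz, hb⟩ : ∃ b ∈ zpowers a, orderOf b = 2 :=
      ⟨a ^ (orderOf a / 2), pow_mem (mem_zpowers a) _,
        orderOf_pow_orderOf_div (orderOf_pos a).ne' h2⟩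
    exact hP' (hinv b hb P' P (hfix b hbz).2 (hfix b hbz).1)

end CfsgLib.Order7920
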