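import Mathlib
import Cfsg.Agent.Lib.Order7920.Edge
import Cfsg.Agent.Lib.Order7920.Inner
import Cfsg.Agent.Lib.Small.Basic

/-!
A group of order 7920 whose prime graph is disconnected is simple.
-/

set_option autoImplicit false

namespace CfsgLib.Order7920

open Subgroup

variable {G : Type*} [Group G] [Finite G]

omit [Finite G] in
theorem centralizer_singleton_le_normalizer (y : G) :
    centralizer ({y} : Set G) ≤ normalizer (zpowers y : Set G) := by
  refine le_trans ?_ (centralizer_le_normalizer _)
  intro c hc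
  rw [mem_centralizer_iff]
  rintro _ ⟨i, rfl⟩
  have h : Commute c y := mem_centralizer_singleton_iff.1 hc
  exact (h.zpow_right i).symm.eq

theorem card_inf_mul_index (N K : Subgroup G) [K.Normal] (h : N ⊔ K = ⊤) :
    Nat.card (N ⊓ K : Subgroup G) * K.index = Nat.card N := by
  have h2 : K.relIndex N = K.index := by
    rw [← relIndex_sup_right (H := N) (K := K), h, relIndex_top_right]
  rw [← h2, ← inf_relIndex_left N K, ← relIndex_bot_left, ← relIndex_bot_left]
  exact relIndex_mul_relIndex ⊥ _ _ bot_le inf_le_left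

variable (A : Set ℕ)
  (htie : ∀ a b : ℕ, a.Prime → b.Prime → a ∣ 7920 → b ∣ 7920 → HasOrd G a b → (a ∈ A ↔ b ∈ A))
  (hne : ¬ ((2 ∈ A ↔ 11 ∈ A) ∧ (3 ∈ A ↔ 11 ∈ A) ∧ (5 ∈ A ↔ 11 ∈ A)))
  (hord : Nat.card G = 7920)

include htie in
theorem tie {a b : ℕ} (h : HasOrd G a b) (ha : a.Prime := by norm_num) (hb : b.Prime := by norm_num)
    (ha' : a ∣ 7920 := by norm_num) (hb' : b ∣ 7920 := by norm_num) : a ∈ A ↔ b ∈ A :=
  htie a b ha hb ha' hb' h

include hord in
theorem sylow_card (P : Sylow 11 G) : Nat.card (P : Subgroup G) = 11 := by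
  have h11p : Nat.Prime 11 := by norm_num
  have := Fact.mk h11p
  rw [P.card_eq_multiplicity, hord, show 7920 = 11 * 720 by norm_num,
    Nat.factorization_mul (by norm_num) (by norm_num), Finsupp.add_apply,
    h11p.factorization_self, Nat.factorization_eq_zero_of_not_dvd (by norm_num : ¬ 11 ∣ 720),
    pow_one]

include hord in
theorem centralizer_data (P : Sylow 11 G) :
    ∃ e, e ∈ ({1, 2, 5, 10} : Finset ℕ) ∧
      Nat.card (centralizer ((P : Subgroup G) : Set G)) * e =
        Nat.card (normalizer ((P : Subgroup G) : Set G)) := by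
  have := Fact.mk (show Nat.Prime 11 by norm_num)
  refine ⟨_, ?_, CfsgLib.Small.card_centralizer_mul_relIndex _⟩
  have hd := CfsgLib.Small.relIndex_centralizer_normalizer_dvd_of_prime (p := 11)
    (sylow_card hord P)
  have : Nat.divisors 10 = {1, 2, 5, 10} := by decide
  rw [← this, Nat.mem_divisors]
  exact ⟨hd, by norm_num⟩

include hord in
theorem sylow_number (P : Sylow 11 G) :
    Nat.card (Sylow 11 G) ∈ ({1, 12, 45, 144} : Finset ℕ) ∧
      Nat.card (normalizer ((P : Subgroup G) : Set G)) * Nat.card (Sylow 11 G) = 7920 := by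
  have := Fact.mk (show Nat.Prime 11 by norm_num)
  refine ⟨?_, hord ▸ CfsgLib.Small.card_normalizer_mul_card_sylow P⟩
  have hi : (P : Subgroup G).index = 720 := by
    have h := (P : Subgroup G).card_mul_index
    rw [sylow_card hord P, hord] at h
    omega
  have hd : Nat.card (Sylow 11 G) ∣ 720 := hi ▸ P.card_dvd_index
  have hm := card_sylow_modEq_one 11 G
  have key : ∀ d ∈ Nat.divisors 720, d % 11 = 1 → d ∈ ({1, 12, 45, 144} : Finset ℕ) := by
    decide +kernel
  exact key _ (Nat.mem_divisors.2 ⟨hd, by norm_num⟩) hm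

include htie hne hord in
theorem sylow_number' (P : Sylow 11 G) :
    Nat.card (Sylow 11 G) = 45 ∨ Nat.card (Sylow 11 G) = 144 := by
  have := Fact.mk (show Nat.Prime 11 by norm_num)
  obtain ⟨hn, hN⟩ := sylow_number hord P
  obtain ⟨e, he, hC⟩ := centralizer_data hord P
  set N := normalizer ((P : Subgroup G) : Set G)
  set C := centralizer ((P : Subgroup G) : Set G) with hCdef
  simp only [Finset.mem_insert, Finset.mem_singleton] at hn he
  by_contra hcon
  have hsmall : Nat.card N = 7920 ∨ Nat.card N = 660 := by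
    rcases hn with h | h | h | h <;> rw [h] at hN <;> omega
  have hNG := Subgroup.card_subgroup_dvd_card N
  rw [hord] at hNG
  have hedge : ∀ r : ℕ, r.Prime → r ≠ 11 → r ∣ Nat.card C → HasOrd G r 11 := fun r hr hne' h =>
    hasOrd_of_centralizer hr (by norm_num) hne' (K := (P : Subgroup G)) le_rfl h
      (by rw [sylow_card hord P])
  have h2 : 2 ∣ Nat.card C := by rcases hsmall with h | h <;> rw [h] at hC <;> rcases he with rfl | rfl | rfl | rfl <;> omega
  have h3 : 3 ∣ Nat.card C := by rcases hsmall with h | h <;> rw [h] at hC <;> rcases he with rfl | rfl | rfl | rfl <;> omega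
  have t2 := tie A htie (hedge 2 (by norm_num) (by norm_num) h2)
  have t3 := tie A htie (hedge 3 (by norm_num) (by norm_num) h3)
  refine hne ⟨t2, t3, ?_⟩
  by_cases h5 : 5 ∣ Nat.card C
  · exact tie A htie (hedge 5 (by norm_num) (by norm_num) h5)
  · have hnorm : (C.subgroupOf N).Normal := by
      rw [hCdef, ← Subgroup.normalizerMonoidHom_ker]
      exact MonoidHom.normal_ker _
    have hCc : Nat.card (C.subgroupOf N) = Nat.card C :=
      Nat.card_congr (Subgroup.subgroupOfEquivOfLe (centralizer_le_normalizer _)).toEquiv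
    have hE : HasOrd N 3 5 := hasOrd_of_frattini (G := N) (by norm_num) (by norm_num) (by norm_num)
      (C.subgroupOf N) (hCc ▸ h3) (hCc ▸ h5) (by rcases hsmall with h | h <;> rw [h] <;> norm_num)
      (fun i hi hd => by
        have hd' : 3 ^ i ∣ 7920 := (hd.trans (hCc ▸ dvd_rfl)).trans
          (hord ▸ Subgroup.card_subgroup_dvd_card C)
        have hi2 : i ≤ 2 := by
          by_contra hlt
          have := (pow_dvd_pow 3 (show 3 ≤ i by omega)).trans hd'
          norm_num at this
        interval_cases i <;> simp_all)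
    exact (tie A htie hE.of_subgroup).symm.trans t3

set_option maxHeartbeats 2000000 in
include htie hne hord in
/-- A nontrivial normal subgroup has order divisible by 11. -/
theorem eleven_dvd (M : Subgroup G) [M.Normal] (hM : M ≠ ⊥) : 11 ∣ Nat.card M := by
  have h11p : Nat.Prime 11 := by norm_num
  have := Fact.mk h11p
  by_contra h11
  obtain ⟨P⟩ : Nonempty (Sylow 11 G) := inferInstance
  have hMd : Nat.card M ∣ 7920 := hord ▸ Subgroup.card_subgroup_dvd_card M
  have h11G : 11 ∣ Nat.card G := by rw [hord]; norm_num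
  have hcent : ∀ y : G, orderOf y = 11 →
      Nat.card (centralizer ({y} : Set G)) ∣ Nat.card (normalizer ((P : Subgroup G) : Set G)) := by
    intro y hy
    obtain ⟨R, hR⟩ := IsPGroup.exists_le_sylow (p := 11) (P := zpowers y)
      (IsPGroup.of_card (n := 1) (by rw [Nat.card_zpowers, hy, pow_one]))
    have hR' : (R : Subgroup G) = zpowers y := (Subgroup.eq_of_le_of_card_ge hR (by
      rw [Nat.card_zpowers, hy, sylow_card hord R])).symm
    refine (Subgroup.card_dvd_of_le ((centralizer_singleton_le_normalizer y).trans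
      (le_of_eq (by rw [← hR'])))).trans ?_
    exact dvd_of_eq (Nat.eq_of_mul_eq_mul_right Nat.card_pos
      ((CfsgLib.Small.card_normalizer_mul_card_sylow R).trans
        (CfsgLib.Small.card_normalizer_mul_card_sylow P).symm))
  have hpow : ∀ r i, r ∈ ({2, 3, 5} : Finset ℕ) → r ^ i ∣ Nat.card M →
      r ^ i ∣ Nat.card (normalizer ((P : Subgroup G) : Set G)) := by
    intro r i hr hi
    simp only [Finset.mem_insert, Finset.mem_singleton] at hr
    have hr' : r.Prime := by rcases hr with rfl | rfl | rfl <;> norm_num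
    obtain ⟨y, hy, hd⟩ := sylow_dvd_centralizer hr' h11p M h11 h11G hi (fun a b ha hba hab => by
      have hd := ha.trans hMd
      rcases hr with rfl | rfl | rfl
      · have ha4 : a ≤ 4 := by
          by_contra hlt
          have := (pow_dvd_pow 2 (show 5 ≤ a by omega)).trans hd
          norm_num at this
        interval_cases a <;> interval_cases b <;> simp_all
      · have ha2 : a ≤ 2 := by
          by_contra hlt
          have := (pow_dvd_pow 3 (show 3 ≤ a by omega)).trans hd
          norm_num at this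
        interval_cases a <;> interval_cases b <;> simp_all
      · have ha1 : a ≤ 1 := by
          by_contra hlt
          have := (pow_dvd_pow 5 (show 2 ≤ a by omega)).trans hd
          norm_num at this
        interval_cases a <;> interval_cases b <;> simp_all)
    exact hd.trans (hcent y hy)
  obtain ⟨-, hN⟩ := sylow_number hord P
  have hM1 : Nat.card M ≠ 1 := fun h => hM (Subgroup.card_eq_one.1 h)
  rcases sylow_number' A htie hne hord P with hn | hn <;> rw [hn] at hN
  · -- 45 Sylow subgroups
    have hN' : Nat.card (normalizer ((P : Subgroup G) : Set G)) = 176 := by omega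
    have h3 : ¬ 3 ∣ Nat.card M := fun h => by
      have h' := hpow 3 1 (by simp) (by rwa [pow_one])
      rw [hN'] at h'; norm_num at h'
    have h5 : ¬ 5 ∣ Nat.card M := fun h => by
      have h' := hpow 5 1 (by simp) (by rwa [pow_one])
      rw [hN'] at h'; norm_num at h'
    have key : ∀ d ∈ Nat.divisors 7920, ¬ 3 ∣ d → ¬ 5 ∣ d → ¬ 11 ∣ d → d ≠ 1 →
        d ∈ ({2, 4, 8, 16} : Finset ℕ) := by decide +kernel
    have hMc := key _ (Nat.mem_divisors.2 ⟨hMd, by norm_num⟩) h3 h5 h11 hM1
    simp only [Finset.mem_insert, Finset.mem_singleton] at hMc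
    have h2M : 2 ∣ Nat.card M := by omega
    have hbound : ∀ i, i ≠ 0 → 2 ^ i ∣ Nat.card M → i ≤ 4 := by
      intro i _ hd
      by_contra hlt
      have := (pow_dvd_pow 2 (show 5 ≤ i by omega)).trans (hd.trans hMd)
      norm_num at this
    have t2 := tie A htie (hasOrd_of_frattini Nat.prime_two h11p (by norm_num) M h2M h11 h11G
      (fun i hi hd => by have := hbound i hi hd; interval_cases i <;> simp_all))
    -- an element of `M` centralised by an element of order 3
    have hclass : ∀ x ∈ M, x ≠ 1 → {g | IsConj x g} ⊆ (M : Set G) \ {1} := by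
      intro x hx hx1 g hg
      obtain ⟨c, rfl⟩ := isConj_iff.1 hg
      exact ⟨‹M.Normal›.conj_mem x hx c, fun h => hx1 (conj_eq_one_iff.1 h)⟩
    have hMncard : ((M : Set G) \ {1}).ncard = Nat.card M - 1 := by
      rw [Set.ncard_sdiff_singleton_of_mem (one_mem M), ← Nat.card_coe_set_eq]; rfl
    obtain ⟨x, hx, hx1, hx9⟩ : ∃ x ∈ M, x ≠ 1 ∧ ¬ 9 ∣ (centralizer ({x} : Set G)).index := by
      by_contra hall
      push Not at hall
      obtain ⟨x, hx, hx1⟩ := M.ne_bot_iff_exists_ne_one.1 hM |> fun ⟨x, hx⟩ =>
        (⟨x.1, x.2, fun h => hx (Subtype.ext h)⟩ : ∃ x ∈ M, x ≠ (1 : G))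
      have hsz : ∀ x ∈ M, x ≠ 1 → 9 ≤ {g | IsConj x g}.ncard := fun x hx hx1 => by
        have := hall x hx hx1
        rw [ncard_isConj] at this
        exact Nat.le_of_dvd ((Set.ncard_pos (Set.toFinite _)).2 ⟨x, IsConj.refl x⟩) this
      have h9 := hsz x hx hx1
      by_cases hcov : (M : Set G) \ {1} ⊆ {g | IsConj x g}
      · have h1 := Set.ncard_le_ncard (hclass x hx hx1)
        have h2 := Set.ncard_le_ncard hcov
        have h15 : {g | IsConj x g}.ncard = Nat.card M - 1 := by omega
        have := hall x hx hx1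
        rw [ncard_isConj, h15] at this
        omega
      · obtain ⟨y, hy, hyx⟩ := Set.not_subset.1 hcov
        have h9' := hsz y hy.1 hy.2
        have hdis : Disjoint {g | IsConj x g} {g | IsConj y g} := by
          rw [Set.disjoint_left]
          intro g hg hg'
          exact hyx (IsConj.trans hg (IsConj.symm hg'))
        have h1 := Set.ncard_le_ncard (Set.union_subset (hclass x hx hx1) (hclass y hy.1 hy.2))
        rw [Set.ncard_union_eq hdis] at h1
        omega
    have t3 := tie A htie (hasOrd_of_centralizer (H := centralizer ({x} : Set G))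
      (K := zpowers x) Nat.prime_three Nat.prime_two (by norm_num)
      (fun c hc => by
        rw [mem_centralizer_iff]
        rintro _ ⟨i, rfl⟩
        exact ((show Commute c x from mem_centralizer_singleton_iff.1 hc).zpow_right i).symm.eq)
      (by
        have h := (centralizer ({x} : Set G)).card_mul_index
        rw [hord] at h
        have h9 : 9 ∣ Nat.card (centralizer ({x} : Set G)) * (centralizer ({x} : Set G)).index := by
          rw [h]; norm_num
        by_contra h3c
        exact hx9 ((Nat.Coprime.dvd_mul_left (Nat.Coprime.pow_left 2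
          ((Nat.Prime.coprime_iff_not_dvd Nat.prime_three).2 h3c))).1 h9))
      (by
        rw [Nat.card_zpowers]
        have hd : orderOf x ∣ Nat.card M := by
          rw [← Nat.card_zpowers]; exact Subgroup.card_dvd_of_le (zpowers_le.2 hx)
        obtain ⟨j, -, hj⟩ : ∃ j, j ≤ 4 ∧ orderOf x = 2 ^ j := by
          refine (Nat.dvd_prime_pow Nat.prime_two).1 (hd.trans ?_)
          rcases hMc with h | h | h | h <;> rw [h] <;> norm_num
        rcases Nat.eq_zero_or_pos j with rfl | hpos
        · exact absurd (orderOf_eq_one_iff.1 hj) hx1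
        · exact hj ▸ dvd_pow_self 2 hpos.ne'))
    by_cases h16 : Nat.card M = 16
    · have := Fact.mk (show Nat.Prime 5 by norm_num)
      have hQ : Nat.card (G ⧸ M) = 495 := by
        have h := M.card_mul_index
        rw [h16, hord] at h
        rw [← Subgroup.index_eq_card]; omega
      obtain ⟨T⟩ : Nonempty (Sylow 5 (G ⧸ M)) := inferInstance
      have hT5 : Nat.card (T : Subgroup (G ⧸ M)) = 5 := by
        rw [T.card_eq_multiplicity, hQ, show 495 = 5 * 99 by norm_num,
          Nat.factorization_mul (by norm_num) (by norm_num), Finsupp.add_apply,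
          (show Nat.Prime 5 by norm_num).factorization_self,
          Nat.factorization_eq_zero_of_not_dvd (by norm_num : ¬ 5 ∣ 99), pow_one]
      have hmul := CfsgLib.Small.card_normalizer_mul_card_sylow T
      rw [hQ] at hmul
      have hd : Nat.card (Sylow 5 (G ⧸ M)) ∣ 495 := ⟨_, (hmul.symm.trans (Nat.mul_comm _ _))⟩
      have key5 : ∀ d ∈ Nat.divisors 495, d % 5 = 1 → d = 1 ∨ d = 11 := by decide +kernel
      have hE : HasOrd (G ⧸ M) 5 3 := by
        refine hasOrd_of_normalizer (by norm_num) Nat.prime_three (by norm_num) T.isPGroup'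
          (by rw [hT5]; norm_num) ?_
        rcases key5 _ (Nat.mem_divisors.2 ⟨hd, by norm_num⟩) (card_sylow_modEq_one 5 (G ⧸ M))
          with h | h <;> rw [h] at hmul <;> omega
      have t5 := tie A htie hE.of_quotient
      exact hne ⟨t2, t3.trans t2, t5.trans (t3.trans t2)⟩
    · have t5 := tie A htie (hasOrd_of_frattini Nat.prime_two (q := 5) (by norm_num) (by norm_num)
        M h2M h5 (by rw [hord]; norm_num) (fun i hi hd => by
          have hle : i ≤ 3 := by
            by_contra hlt
            have := (pow_dvd_pow 2 (show 4 ≤ i by omega)).trans hd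
            rcases hMc with h | h | h | h <;> rw [h] at this <;> simp_all
          interval_cases i <;> simp_all))
      exact hne ⟨t2, t3.trans t2, t5.symm.trans t2⟩
  · -- 144 Sylow subgroups
    have hN' : Nat.card (normalizer ((P : Subgroup G) : Set G)) = 55 := by omega
    have h2 : ¬ 2 ∣ Nat.card M := fun h => by
      have h' := hpow 2 1 (by simp) (by rwa [pow_one])
      rw [hN'] at h'; norm_num at h'
    have h3 : ¬ 3 ∣ Nat.card M := fun h => by
      have h' := hpow 3 1 (by simp) (by rwa [pow_one])
      rw [hN'] at h'; norm_num at h'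
    have key : ∀ d ∈ Nat.divisors 7920, ¬ 2 ∣ d → ¬ 3 ∣ d → ¬ 11 ∣ d → d ≠ 1 → d = 5 := by
      decide +kernel
    have h5M := key _ (Nat.mem_divisors.2 ⟨hMd, by norm_num⟩) h2 h3 h11 hM1
    have hbound : ∀ i, i ≠ 0 → 5 ^ i ∣ Nat.card M → i = 1 := by
      intro i hi hd
      by_contra hlt
      have := (pow_dvd_pow 5 (show 2 ≤ i by omega)).trans hd
      rw [h5M] at this; norm_num at this
    have t511 := tie A htie (hasOrd_of_frattini (r := 5) (by norm_num) h11p (by norm_num) M
      (h5M ▸ dvd_rfl) h11 h11G (fun i hi hd => by rw [hbound i hi hd]; norm_num))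
    have t53 := tie A htie (hasOrd_of_frattini (r := 5) (q := 3) (by norm_num) Nat.prime_three
      (by norm_num) M (h5M ▸ dvd_rfl) h3 (by rw [hord]; norm_num)
      (fun i hi hd => by rw [hbound i hi hd]; norm_num))
    have := Fact.mk (show Nat.Prime 5 by norm_num)
    have hCM : 2 ∣ Nat.card (centralizer (M : Set G)) := by
      have h := CfsgLib.Small.card_centralizer_mul_relIndex M
      have hd := CfsgLib.Small.relIndex_centralizer_normalizer_dvd_of_prime (p := 5) h5M
      have htop : normalizer (M : Set G) = ⊤ := normalizer_eq_top_iff.2 inferInstance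
      rw [htop] at hd
      rw [htop, Subgroup.card_top, hord] at h
      obtain ⟨c, hc⟩ := hd
      have : (centralizer (M : Set G)).relIndex ⊤ ≤ 4 := Nat.le_of_dvd (by norm_num) ⟨c, hc⟩
      interval_cases hk : (centralizer (M : Set G)).relIndex ⊤ <;> omega
    have t25 := tie A htie (hasOrd_of_centralizer (H := centralizer (M : Set G)) (K := M)
      Nat.prime_two (q := 5) (by norm_num) (by norm_num) le_rfl hCM (h5M ▸ dvd_rfl))
    exact hne ⟨t25.trans t511, t53.symm.trans t511, t511⟩

include htie hne hord in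
theorem no_complement (K : Subgroup G) [K.Normal] (P : Sylow 11 G) (hPK : (P : Subgroup G) ≤ K)
    (h : Nat.card (normalizer ((P : Subgroup G) : Set G) ⊓ K : Subgroup G) = 11) : False := by
  have h11p : Nat.Prime 11 := by norm_num
  have := Fact.mk h11p
  set N := normalizer ((P : Subgroup G) : Set G)
  set PK : Sylow 11 K := P.subtype hPK
  have hPKcard : Nat.card (PK : Subgroup K) = 11 := by
    rw [Sylow.coe_subtype]
    exact (Nat.card_congr (Subgroup.subgroupOfEquivOfLe hPK).toEquiv).trans (sylow_card hord P)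
  have hle : normalizer ((PK : Subgroup K) : Set K) ≤ N.subgroupOf K := by
    intro y hy
    rw [mem_subgroupOf, mem_normalizer_iff]
    intro x
    constructor
    · intro hx
      exact ((mem_normalizer_iff.1 hy) ⟨x, hPK hx⟩).1 hx
    · intro hx
      have hxK : x ∈ K := by
        have h' := ‹K.Normal›.conj_mem _ (hPK hx) (y : G)⁻¹
        simpa [mul_assoc] using h'
      exact ((mem_normalizer_iff.1 hy) ⟨x, hxK⟩).2 hx
  have heq : normalizer ((PK : Subgroup K) : Set K) = (PK : Subgroup K) := by
    refine (Subgroup.eq_of_le_of_card_ge le_normalizer ?_).symm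
    refine ((Subgroup.card_le_of_le hle).trans ?_).trans_eq (h.trans hPKcard.symm)
    have he : (N.subgroupOf K).map K.subtype = N ⊓ K := subgroupOf_map_subtype N K
    rw [← he, Subgroup.card_map_of_injective (f := K.subtype) K.subtype_injective]
  have hcomm : normalizer ((PK : Subgroup K) : Set K) ≤ centralizer ((PK : Subgroup K) : Set K) := by
    rw [heq]
    have : IsCyclic (PK : Subgroup K) := isCyclic_of_prime_card hPKcard
    intro a ha
    rw [mem_centralizer_iff]
    intro b hb
    have hc : (⟨b, hb⟩ : (PK : Subgroup K)) * ⟨a, ha⟩ = ⟨a, ha⟩ * ⟨b, hb⟩ := by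
      obtain ⟨g, hg⟩ := IsCyclic.exists_generator (α := (PK : Subgroup K))
      obtain ⟨i, hi⟩ := hg ⟨a, ha⟩
      obtain ⟨j, hj⟩ := hg ⟨b, hb⟩
      simp only at hi hj
      rw [← hi, ← hj, ← zpow_add, ← zpow_add, add_comm]
    exact congrArg Subtype.val hc
  set L := (MonoidHom.transferSylow PK hcomm).ker
  have hc := MonoidHom.ker_transferSylow_isComplement' PK hcomm
  have hLidx : L.index = 11 := by rw [hc.symm.index_eq_card, hPKcard]
  have hL11 : ¬ 11 ∣ Nat.card L := MonoidHom.not_dvd_card_ker_transferSylow PK hcomm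
  have hchar : ∀ g : K, g ∈ L ↔ g ^ Nat.card L = 1 := by
    intro g
    constructor
    · intro hg
      exact congrArg Subtype.val (pow_card_eq_one' (G := L) (x := ⟨g, hg⟩))
    · intro hg
      rw [← QuotientGroup.eq_one_iff, ← orderOf_eq_one_iff]
      refine Nat.eq_one_of_dvd_coprimes ((Nat.Prime.coprime_iff_not_dvd h11p).2 hL11) ?_ ?_
      · exact (_root_.orderOf_dvd_natCard _).trans (dvd_of_eq ((Subgroup.index_eq_card L).symm.trans hLidx))
      · exact orderOf_dvd_of_pow_eq_one (by rw [← QuotientGroup.mk_pow, hg, QuotientGroup.mk_one])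
  set L' := L.map K.subtype
  have hL'n : L'.Normal := ⟨by
    rintro _ ⟨y, hy, rfl⟩ g
    refine ⟨MulAut.conjNormal g y, (hchar _).2 ?_, by simp⟩
    rw [← map_pow, (hchar y).1 hy, map_one]⟩
  have hL'c : Nat.card L' = Nat.card L :=
    Subgroup.card_map_of_injective K.subtype_injective
  refine hL11 (hL'c ▸ eleven_dvd A htie hne hord L' fun hbot => ?_)
  rw [hbot, Subgroup.card_bot] at hL'c
  have hKP : Nat.card K = 11 := by rw [← L.card_mul_index, ← hL'c, hLidx]
  have hPeq : (P : Subgroup G) = K :=
    Subgroup.eq_of_le_of_card_ge hPK (by rw [hKP, sylow_card hord P])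
  have htop : N = ⊤ := by
    have : (P : Subgroup G).Normal := hPeq ▸ inferInstance
    exact normalizer_eq_top_iff.2 this
  rw [htop, top_inf_eq, hKP] at h
  obtain ⟨-, hN⟩ := sylow_number hord P
  rcases sylow_number' A htie hne hord P with hn | hn <;>
    rw [show normalizer ((P : Subgroup G) : Set G) = ⊤ from htop, Subgroup.card_top, hord, hn] at hN <;>
    omega

include htie hne hord in
theorem no_normal (M : Subgroup G) [M.Normal] (hM : M ≠ ⊥) (hM' : M ≠ ⊤) : False := by
  classical
  have h11p : Nat.Prime 11 := by norm_num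
  have := Fact.mk h11p
  obtain ⟨P⟩ : Nonempty (Sylow 11 G) := inferInstance
  have hsub : ∀ K : Subgroup G, K.Normal → 11 ∣ Nat.card K →
      (∀ Q : Sylow 11 G, (Q : Subgroup G) ≤ K) ∧
      ∀ Q : Sylow 11 G, Nat.card (normalizer ((Q : Subgroup G) : Set G) ⊓ K : Subgroup G) * K.index =
        Nat.card (normalizer ((Q : Subgroup G) : Set G)) := by
    intro K hK hd
    obtain ⟨x, hx⟩ := exists_prime_orderOf_dvd_card' 11 hd
    obtain ⟨R, hR⟩ := IsPGroup.exists_le_sylow (p := 11) (P := zpowers (x : G))
      (IsPGroup.of_card (n := 1) (by rw [Nat.card_zpowers, Subgroup.orderOf_coe, hx, pow_one]))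
    have hRK : (R : Subgroup G) ≤ K := by
      have : zpowers (x : G) = (R : Subgroup G) := Subgroup.eq_of_le_of_card_ge hR (by
        rw [Nat.card_zpowers, Subgroup.orderOf_coe, hx, sylow_card hord R])
      exact this ▸ zpowers_le.2 x.2
    have hall : ∀ Q : Sylow 11 G, (Q : Subgroup G) ≤ K := by
      intro Q
      obtain ⟨g, rfl⟩ := MulAction.exists_smul_eq G R Q
      rw [Sylow.coe_subgroup_smul]
      rintro _ ⟨y, hy, rfl⟩
      exact hK.conj_mem y (hRK hy) g
    exact ⟨hall, fun Q => card_inf_mul_index _ K (Sylow.normalizer_sup_eq_top' Q (hall Q))⟩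
  obtain ⟨hn, hN⟩ := sylow_number hord P
  obtain ⟨hall, hmul⟩ := hsub M inferInstance (eleven_dvd A htie hne hord M hM)
  have hidx1 : M.index ≠ 1 := fun h => hM' (index_eq_one.1 h)
  have hMi : M.index * Nat.card M = 7920 := by rw [Nat.mul_comm, M.card_mul_index, hord]
  have h11i : ¬ 11 ∣ M.index := by
    intro h
    have h2 := Nat.mul_dvd_mul h (eleven_dvd A htie hne hord M hM)
    rw [hMi] at h2; norm_num at h2
  have hkd : M.index ∣ Nat.card (normalizer ((P : Subgroup G) : Set G)) :=
    ⟨_, (hmul P).symm.trans (Nat.mul_comm _ _)⟩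
  rcases sylow_number' A htie hne hord P with hn | hn <;> rw [hn] at hN
  swap
  · have hN' : Nat.card (normalizer ((P : Subgroup G) : Set G)) = 55 := by omega
    have key : ∀ d ∈ Nat.divisors 55, d ≠ 1 → ¬ 11 ∣ d → d = 5 := by decide +kernel
    have hk := key _ (Nat.mem_divisors.2 ⟨hN' ▸ hkd, by norm_num⟩) hidx1 h11i
    have h := hmul P
    rw [hk, hN'] at h
    exact no_complement A htie hne hord M P (hall P) (by omega)
  have hN' : Nat.card (normalizer ((P : Subgroup G) : Set G)) = 176 := by omega
  have key : ∀ d ∈ Nat.divisors 176, d ≠ 1 → ¬ 11 ∣ d → d ∈ ({2, 4, 8, 16} : Finset ℕ) := by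
    decide +kernel
  have hk := key _ (Nat.mem_divisors.2 ⟨hN' ▸ hkd, by norm_num⟩) hidx1 h11i
  simp only [Finset.mem_insert, Finset.mem_singleton] at hk
  -- a smallest normal subgroup of 2-power index
  have hex : ∃ c, ∃ K : Subgroup G, K.Normal ∧ (∃ j, K.index = 2 ^ j) ∧ K ≤ M ∧ Nat.card K = c :=
    ⟨_, M, inferInstance, by
      rcases hk with h | h | h | h
      exacts [⟨1, by rw [h]; norm_num⟩, ⟨2, by rw [h]; norm_num⟩, ⟨3, by rw [h]; norm_num⟩,
        ⟨4, by rw [h]; norm_num⟩], le_rfl, rfl⟩
  obtain ⟨K, hKn, ⟨j, hj⟩, hKM, hKc⟩ := Nat.find_spec hex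
  have hidxK : ∀ L : Subgroup K, L.index ≠ 2 := by
    intro L hL
    set L' := L.map K.subtype
    set D := L'.normalCore
    have hsq : ∀ g ∈ K, g ^ 2 ∈ D := by
      intro g hg c
      have hc : c * g * c⁻¹ ∈ K := hKn.conj_mem g hg c
      refine ⟨(⟨_, hc⟩ : K) ^ 2, Subgroup.sq_mem_of_index_two hL _, ?_⟩
      simp [pow_two, mul_assoc]
    have hDK : D ≤ L' := normalCore_le _
    have hp : IsPGroup 2 (G ⧸ D) := by
      intro q
      obtain ⟨g, rfl⟩ := QuotientGroup.mk_surjective q
      refine ⟨j + 1, ?_⟩
      rw [← QuotientGroup.mk_pow, QuotientGroup.eq_one_iff, pow_succ, pow_mul]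
      exact hsq _ (hj ▸ K.pow_index_mem g)
    have := Fact.mk Nat.prime_two
    obtain ⟨i, hi⟩ := IsPGroup.iff_card.1 hp
    have hL'K : L' ≤ K := Subgroup.map_subtype_le L
    have hmin := Nat.find_le (h := hex) (n := Nat.card D)
      ⟨D, inferInstance, ⟨i, by rw [Subgroup.index_eq_card, hi]⟩,
        hDK.trans (hL'K.trans hKM), rfl⟩
    have h1 := Subgroup.card_le_of_le hDK
    have h2 : Nat.card L' = Nat.card L := Subgroup.card_map_of_injective K.subtype_injective
    have h3 := L.card_mul_index
    rw [hL] at h3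
    have h4 : 0 < Nat.card L := Nat.card_pos
    omega
  have hK11 : 11 ∣ Nat.card K := by
    have h : 11 ∣ Nat.card K * K.index := by rw [K.card_mul_index, hord]; norm_num
    rw [hj] at h
    exact (Nat.Coprime.dvd_mul_right (Nat.Coprime.pow_right j (by norm_num))).1 h
  obtain ⟨hallK, hmulK⟩ := hsub K hKn hK11
  have hKd : K.index ∣ 176 := hN' ▸ ⟨_, (hmulK P).symm.trans (Nat.mul_comm _ _)⟩
  have hj1 : 1 ≤ j := by
    by_contra h0
    have : j = 0 := by omega
    rw [this, pow_zero, index_eq_one] at hj
    exact hM' (top_le_iff.1 (hj ▸ hKM))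
  have hj4 : j ≤ 4 := by
    by_contra hlt
    have := (pow_dvd_pow 2 (show 5 ≤ j by omega)).trans (hj ▸ hKd)
    norm_num at this
  have hKcard : Nat.card K * 2 ^ j = 7920 := by rw [← hj, K.card_mul_index, hord]
  have hNK := hmulK P
  rw [hj, hN'] at hNK
  by_cases h4 : j = 4
  · subst h4
    exact no_complement A htie hne hord K P (hallK P) (by norm_num at hNK ⊢; omega)
  by_cases h3 : j = 3
  · subst h3
    obtain ⟨L, hL⟩ := CfsgLib.Involutions.exists_index_two_of_card_eq_two_mul_odd (G := K)
      (m := 495) (by decide) (by norm_num at hKcard ⊢; omega)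
    exact hidxK L hL
  set s := 4 - j with hs_def
  set PK : Sylow 11 K := P.subtype (hallK P)
  have hnorm : ∀ (Q : Sylow 11 G) (z : K),
      z ∈ normalizer (((Q.subtype (hallK Q) : Sylow 11 K) : Subgroup K) : Set K) ↔
        (z : G) ∈ normalizer ((Q : Subgroup G) : Set G) := by
    intro Q z
    rw [mem_normalizer_iff, mem_normalizer_iff]
    constructor
    · intro hz x
      constructor
      · intro hx
        exact (hz ⟨x, hallK Q hx⟩).1 hx
      · intro hx
        have hxK : x ∈ K := by
          have h' := hKn.conj_mem _ (hallK Q hx) (z : G)⁻¹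
          simpa [mul_assoc] using h'
        exact (hz ⟨x, hxK⟩).2 hx
    · intro hz x
      exact hz x
  have hnK : Nat.card (Sylow 11 K) = 45 := by
    have h := CfsgLib.Small.card_normalizer_mul_card_sylow PK
    have hc : Nat.card (normalizer ((PK : Subgroup K) : Set K)) =
        Nat.card (normalizer ((P : Subgroup G) : Set G) ⊓ K : Subgroup G) :=
      Nat.card_congr
        { toFun := fun v => ⟨((v : K) : G), (hnorm P v.1).1 v.2, (v : K).2⟩
          invFun := fun w => ⟨⟨w.1, w.2.2⟩, (hnorm P ⟨w.1, w.2.2⟩).2 w.2.1⟩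
          left_inv := fun _ => rfl
          right_inv := fun _ => rfl }
    rw [hc] at h
    have h' : 176 * Nat.card (Sylow 11 K) = 7920 := by rw [← hNK, ← hKcard, ← h]; ring
    omega
  have hfaith : ∀ z : K, (∀ Q : Sylow 11 K, z ∈ normalizer ((Q : Subgroup K) : Set K)) → z = 1 := by
    intro z hz
    by_contra hz1
    set R := (MulAction.toPermHom G (Sylow 11 G)).ker ⊓ K
    have hzR : (z : G) ∈ R := ⟨MonoidHom.mem_ker.2 (Equiv.ext fun Q =>
      Sylow.smul_eq_iff_mem_normalizer.2 ((hnorm Q z).1 (hz _))), z.2⟩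
    have hR : R ≠ ⊥ := fun h => hz1 (Subtype.ext (by rw [h] at hzR; exact mem_bot.1 hzR))
    have := Subgroup.normal_inf_normal (MulAction.toPermHom G (Sylow 11 G)).ker K
    obtain ⟨hallR, -⟩ := hsub R inferInstance (eleven_dvd A htie hne hord R hR)
    have hsub1 : ∀ Q : Sylow 11 G, P = Q := fun Q => sylow_eq_of_le_normalizer P Q fun x hx =>
      Sylow.smul_eq_iff_mem_normalizer.1 (Equiv.ext_iff.1 (MonoidHom.mem_ker.1 (hallR P hx).1) Q)
    have : Subsingleton (Sylow 11 G) := ⟨fun a b => (hsub1 a).symm.trans (hsub1 b)⟩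
    have := Nat.card_of_subsingleton P
    omega
  refine inner (G := K) s (by omega) ?_ hnK hidxK hfaith PK ?_
  · interval_cases j <;> norm_num [hs_def] at hKcard ⊢ <;> omega
  · obtain ⟨e, he, hC⟩ := centralizer_data hord P
    rw [hN'] at hC
    simp only [Finset.mem_insert, Finset.mem_singleton] at he
    set C := centralizer ((P : Subgroup G) : Set G)
    have hrel : K.relIndex C ∣ 2 ^ j := hj ▸ Subgroup.relIndex_dvd_index_of_normal K C
    have hCK : Nat.card (C ⊓ K : Subgroup G) * K.relIndex C = Nat.card C := by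
      rw [← inf_relIndex_left C K, ← relIndex_bot_left, ← relIndex_bot_left]
      exact relIndex_mul_relIndex ⊥ _ _ bot_le inf_le_left
    have h2 : 2 ∣ Nat.card (C ⊓ K : Subgroup G) := by
      have hle : K.relIndex C ∣ 4 := hrel.trans (by interval_cases j <;> first | omega | norm_num)
      have hle' := Nat.le_of_dvd (by norm_num) hle
      interval_cases hk : K.relIndex C <;> rcases he with rfl | rfl | rfl | rfl <;> omega
    refine h2.trans (Subgroup.card_dvd_of_injective
      (f := ({ toFun := fun v => ⟨⟨(v : G), v.2.2⟩, mem_centralizer_iff.2 fun y hy =>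
                Subtype.ext (mem_centralizer_iff.1 v.2.1 (y : G) hy)⟩
               map_one' := rfl
               map_mul' := fun _ _ => rfl } :
        (C ⊓ K : Subgroup G) →* centralizer ((PK : Subgroup K) : Set K))) ?_)
    intro u v huv
    exact Subtype.ext (congrArg (fun w : centralizer ((PK : Subgroup K) : Set K) => ((w : K) : G)) huv)

end CfsgLib.Order7920
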