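import Cfsg.Agent.Lib.AbelianFrob.Derived
import Cfsg.Agent.Lib.Small.Basic
import Cfsg.Agent.Lib.Blocks.DefectZeroVanish
import Cfsg.Agent.Lib.Chars17.IrrBasic
import Cfsg.Agent.Lib.Characters.Values

/-!
# Characters of a group with a Sylow subgroup of prime order
-/

set_option autoImplicit false
set_option linter.style.haveILetI false
set_option linter.unusedSectionVars false
open Cfsg CfsgLib.Characters CfsgLib.CharCorr
open scoped ComplexConjugate

namespace CfsgLib.Order7920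

universe u

variable {G : Type u} [Group G] [Fintype G]

/-- A trace-free idempotent combination kills every translate. -/
theorem sum_translate_eq_zero {A : Subgroup G} [Fintype A] (χ : IrrCharacter G) (f : A →* ℂˣ)
    (h : ∑ y : A, (f y⁻¹ : ℂ) * (χ : G → ℂ) y = 0) (v : G) :
    ∑ y : A, (f y⁻¹ : ℂ) * (χ : G → ℂ) (v * y) = 0 := by
  classical
  obtain ⟨n, ρ, hρ, hχ⟩ := χ.2
  set E : Module.End ℂ (Fin n → ℂ) := ∑ y : A, (f y⁻¹ : ℂ) • ρ (y : G) with hE
  have hmul : ∀ a : A, (f a⁻¹ : ℂ) • (ρ (a : G) * E) = E := by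
    intro a
    rw [hE, Finset.mul_sum, Finset.smul_sum]
    refine Fintype.sum_equiv (Equiv.mulLeft a) _ _ fun y => ?_
    simp only [Equiv.coe_mulLeft, mul_smul_comm, smul_smul, ← map_mul ρ, Subgroup.coe_mul, map_inv,
      map_mul f, mul_inv, Units.val_mul]
  have hEE : E * E = (Nat.card A : ℂ) • E := by
    conv_lhs => arg 1; rw [hE]
    rw [Finset.sum_mul, Finset.sum_congr rfl (fun y _ => (smul_mul_assoc _ _ _).trans (hmul y)),
      Finset.sum_const, Finset.card_univ, ← Nat.card_eq_fintype_card, Nat.cast_smul_eq_nsmul]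
  have htr : ∀ w : G, LinearMap.trace ℂ _ (ρ w * E) = ∑ y : A, (f y⁻¹ : ℂ) * (χ : G → ℂ) (w * y) := by
    intro w
    rw [hE, Finset.mul_sum, map_sum]
    refine Finset.sum_congr rfl fun y _ => ?_
    rw [mul_smul_comm, map_smul, smul_eq_mul, ← map_mul ρ, ← hχ]
    rfl
  have hA : (Nat.card A : ℂ) ≠ 0 := by simp
  set Q : Module.End ℂ (Fin n → ℂ) := (Nat.card A : ℂ)⁻¹ • E with hQ
  have hQQ : IsIdempotentElem Q := by
    show Q * Q = Q
    rw [hQ, smul_mul_smul_comm, hEE, smul_smul, mul_assoc, inv_mul_cancel₀ hA, mul_one]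
  have hQ0 : LinearMap.trace ℂ _ Q = 0 := by
    rw [hQ, map_smul, ← one_mul E, ← map_one ρ, htr]
    simp only [one_mul, h, smul_zero]
  rw [(LinearMap.IsIdempotentElem.isProj_range Q hQQ).trace, Nat.cast_eq_zero,
    Submodule.finrank_eq_zero, LinearMap.range_eq_bot] at hQ0
  have hE0 : E = 0 := by
    rw [hQ] at hQ0
    exact (smul_eq_zero.1 hQ0).resolve_left (inv_ne_zero hA)
  rw [← htr, hE0, mul_zero, map_zero]

variable [IsSimpleGroup G]

/-- A non-principal irreducible character of a simple group is faithful. -/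
theorem eq_one_of_apply_eq_one {χ : IrrCharacter G} (hχ : χ ≠ principalIrr G) {v : G}
    (hv : (χ : G → ℂ) v = (χ : G → ℂ) 1) : v = 1 := by
  rcases (inferInstance : (Chars17.irrKer χ).Normal).eq_bot_or_eq_top with h | h
  · exact Subgroup.mem_bot.1 (h ▸ Chars17.mem_irrKer.2 hv)
  · exact absurd (Subtype.ext ((Chars17.irrKer_eq_top_iff χ).1 h)) hχ

/-- In a non-commutative simple group a linear character is principal. -/
theorem eq_principal_of_charDegree_one (hG : ¬ IsMulCommutative G) {χ : IrrCharacter G}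
    (h : charDegree (χ : G → ℂ) = 1) : χ = principalIrr G := by
  obtain ⟨f, hf⟩ := LinearTwist.exists_hom_of_charDegree_one (irr_isCharacter χ) h
  refine Subtype.ext (hf.trans ?_)
  funext g
  show ((f g : ℂˣ) : ℂ) = 1
  rw [Small.hom_comm_eq_one hG f]
  rfl

variable {p : ℕ} [hp : Fact p.Prime] (P : Sylow p G) (hP : Nat.card (P : Subgroup G) = p)

include hP in
theorem isMulCommutative_sylow : IsMulCommutative ↥(P : Subgroup G) := by
  haveI : IsCyclic ↥(P : Subgroup G) := isCyclic_of_prime_card hP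
  let _ := IsCyclic.commGroup (α := ↥(P : Subgroup G))
  exact ⟨⟨fun a b => mul_comm a b⟩⟩

include hP in
theorem centralizer_singleton_eq {y : G} (hy : y ∈ (P : Subgroup G)) (hy1 : y ≠ 1) :
    Subgroup.centralizer ({y} : Set G) = AbelianFrob.CP P := by
  conv_rhs => rw [AbelianFrob.CP, Small.eq_zpowers_of_mem hP hy hy1, Subgroup.zpowers_eq_closure,
    Subgroup.centralizer_closure]

include hP in
theorem fpf : AbelianFrob.Fpf P := fun y hy hy1 => by
  rw [centralizer_singleton_eq P hP hy hy1, inf_eq_left.2 (AbelianFrob.CP_le_NP P)]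

include hP in
theorem prime_dvd_card_centralizer : p ∣ Nat.card (AbelianFrob.CP P) := by
  refine hP.symm.dvd.trans (Subgroup.card_dvd_of_le ?_)
  exact AbelianFrob.le_CP P (isMulCommutative_sylow P hP)

variable {M : Ideal AlgInt} (hM : IsPModular p M)

include hP hM in
/-- A faithful member of the principal block has degree at least `p` when `C(P) ≠ P`. -/
theorem le_charDegree_of_centralizer (hC : Nat.card (AbelianFrob.CP P) ≠ p) {χ : IrrCharacter G}
    (hχ : χ ∈ principalBlock M G) (hne : χ ≠ principalIrr G) :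
    p ≤ charDegree (χ : G → ℂ) := by
  classical
  by_contra hlt
  push Not at hlt
  have hab := isMulCommutative_sylow P hP
  have hp0 : p ∣ Nat.card (AbelianFrob.CP P) := prime_dvd_card_centralizer P hP
  -- a regular element centralising `P`
  obtain ⟨v, hvC, hv1, hv⟩ : ∃ v, v ∈ AbelianFrob.CP P ∧ v ≠ 1 ∧ ¬ p ∣ orderOf v := by
    obtain ⟨m, hm⟩ := hp0
    have hm1 : m ≠ 1 := fun h => hC (by rw [hm, h, mul_one])
    obtain ⟨q, hq, hqm⟩ := Nat.exists_prime_and_dvd hm1
    have hqp : q ≠ p := by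
      rintro rfl
      have h1 : q * q ∣ Nat.card G := (mul_dvd_mul_left q hqm).trans (hm ▸ Subgroup.card_subgroup_dvd_card _)
      have h2 := P.card_eq_multiplicity
      rw [hP] at h2
      have h3 : 2 ≤ (Nat.card G).factorization q :=
        (hq.pow_dvd_iff_le_factorization Nat.card_pos.ne').1 (by rwa [sq])
      have h4 : q ^ 1 = q ^ (Nat.card G).factorization q := by rw [pow_one]; exact h2
      have := Nat.pow_right_injective hq.two_le h4
      omega
    haveI := Fact.mk hq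
    obtain ⟨v, hv⟩ := exists_prime_orderOf_dvd_card' (G := AbelianFrob.CP P) q
      (hm ▸ hqm.mul_left p)
    refine ⟨v, v.2, fun h => hq.ne_one ?_, ?_⟩
    · rw [← hv, ← Subgroup.orderOf_coe, h, orderOf_one]
    · rw [Subgroup.orderOf_coe, hv]
      exact fun h => hqp ((Nat.prime_dvd_prime_iff_eq hp.out hq).1 h).symm
  obtain ⟨ψ, hψ⟩ : ∃ ψ : AbelianFrob.Dual P, AbelianFrob.bcoef P χ ψ = 0 := by
    by_contra! hall
    have hsum := AbelianFrob.res_eq_sum P hab χ 1
    simp only [OneMemClass.coe_one, map_one, Units.val_one, mul_one] at hsum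
    rw [irr_one_eq_charDegree] at hsum
    have h1 : (charDegree (χ : G → ℂ) : ℤ) = ∑ ψ : AbelianFrob.Dual P, AbelianFrob.bcoef P χ ψ := by
      exact_mod_cast hsum
    have h2 : (p : ℤ) ≤ charDegree (χ : G → ℂ) := by
      rw [h1]
      refine le_trans ?_ (Finset.sum_le_sum (fun ψ _ => show (1 : ℤ) ≤ AbelianFrob.bcoef P χ ψ from
        lt_of_le_of_ne (Int.natCast_nonneg _) (hall ψ).symm))
      rw [Finset.sum_const, Finset.card_univ, ← Nat.card_eq_fintype_card, AbelianFrob.card_dual P hab,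
        hP, nsmul_one]
    omega
  have h0 : ∑ y : (P : Subgroup G), (ψ y⁻¹ : ℂ) * (χ : G → ℂ) y = 0 := by
    have h := AbelianFrob.bcoef_eq P χ ψ
    rw [hψ, Int.cast_zero, eq_comm, mul_eq_zero] at h
    rw [← h.resolve_left (inv_ne_zero (by simp))]
    exact Finset.sum_congr rfl fun y _ => mul_comm _ _
  refine hv1 (eq_one_of_apply_eq_one hne ?_)
  have h1 := sum_translate_eq_zero χ ψ h0 v
  rw [← Finset.add_sum_erase _ _ (Finset.mem_univ (1 : ↥(P : Subgroup G)))] at h1
  have h0' := h0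
  rw [← Finset.add_sum_erase _ _ (Finset.mem_univ (1 : ↥(P : Subgroup G)))] at h0'
  have hval : ∀ y ∈ Finset.univ.erase (1 : ↥(P : Subgroup G)),
      (ψ y⁻¹ : ℂ) * (χ : G → ℂ) (v * y) = (ψ y⁻¹ : ℂ) * (χ : G → ℂ) y := by
    intro y hy
    have hy1 : (y : G) ≠ 1 := fun h => (Finset.mem_erase.1 hy).1 (Subtype.ext h)
    obtain ⟨-, -, -, hk, -⟩ := AbelianFrob.isPPart_self P hp.out y.2
    have hc : Commute v (y : G) := (Subgroup.mem_centralizer_iff.1 hvC y y.2).symm
    rw [hc.eq, AbelianFrob.value_eq P hab (fpf P hP) hM hχ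
      (Blocks.isPPart_mul hc.symm hk hv) y.2 hy1]
  rw [Finset.sum_congr rfl hval] at h1
  simp only [inv_one, map_one, Units.val_one, one_mul, OneMemClass.coe_one, mul_one] at h1 h0'
  linear_combination h1 - h0'

include hP hM in
/-- Degrees in the principal block: congruence and lower bound from the values on `P`. -/
theorem bcoef_sum_formulas {μ : AbelianFrob.Dual P → IrrCharacter G} {A : IrrCharacter G → ℤ}
    {d δ : ℤ} (S : AbelianFrob.Struct P M μ A d δ) {χ : IrrCharacter G}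
    (hχ : χ ∈ principalBlock M G) :
    ∃ b k : ℤ, 0 ≤ b ∧ 0 ≤ k ∧ (χ ∈ S.rest → k = 0) ∧
      (χ ∈ S.exc → A χ = d ∧ k = ((AbelianFrob.CP P).relIndex (AbelianFrob.NP P) : ℤ)) ∧
      (charDegree (χ : G → ℂ) : ℤ) = p * b - ((p : ℤ) - 1) * A χ + k * δ ∧
      (k < (p : ℤ) - 1 → A χ ≤ b) ∧
      ∑ ψ : AbelianFrob.Dual P, AbelianFrob.bcoef P χ ψ ^ 2 =
        b ^ 2 + ((p : ℤ) - 1) * (b - A χ) ^ 2 + k * (2 * δ * (b - A χ) + 1) := by
  classical
  have hab := isMulCommutative_sylow P hP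
  set O := Finset.univ.filter (fun ψ : AbelianFrob.Dual P => ψ ≠ 1 ∧ μ ψ = χ) with hO
  set b := AbelianFrob.bcoef P χ 1
  have hE : ∀ ψ ∈ Finset.univ.erase (1 : AbelianFrob.Dual P),
      AbelianFrob.bcoef P χ ψ = (b - A χ) + if ψ ∈ O then δ else 0 := by
    intro ψ hψ
    have hψ1 := (Finset.mem_erase.1 hψ).1
    have h := S.bdiff χ hχ ψ hψ1
    have hiff : ψ ∈ O ↔ μ ψ = χ := by simp [hO, hψ1]
    by_cases hm : μ ψ = χ
    · rw [if_pos hm] at h; rw [if_pos (hiff.2 hm)]; linarith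
    · rw [if_neg hm] at h; rw [if_neg fun h' => hm (hiff.1 h')]; linarith
  have hOsub : O ⊆ Finset.univ.erase (1 : AbelianFrob.Dual P) := fun ψ hψ =>
    Finset.mem_erase.2 ⟨(Finset.mem_filter.1 hψ).2.1, Finset.mem_univ _⟩
  have hcard : ((Finset.univ.erase (1 : AbelianFrob.Dual P)).card : ℤ) = (p : ℤ) - 1 := by
    rw [Finset.card_erase_of_mem (Finset.mem_univ _), Finset.card_univ, ← Nat.card_eq_fintype_card,
      AbelianFrob.card_dual P hab, hP, Nat.cast_sub hp.out.one_le]
    simp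
  have hsum : ∀ F : ℤ → ℤ, ∑ ψ : AbelianFrob.Dual P, F (AbelianFrob.bcoef P χ ψ) =
      F b + ((p : ℤ) - 1) * F (b - A χ) + (O.card : ℤ) * (F (b - A χ + δ) - F (b - A χ)) := by
    intro F
    rw [← Finset.add_sum_erase _ _ (Finset.mem_univ (1 : AbelianFrob.Dual P)),
      Finset.sum_congr rfl (fun ψ hψ => show F (AbelianFrob.bcoef P χ ψ) =
        F (b - A χ) + (if ψ ∈ O then F (b - A χ + δ) - F (b - A χ) else 0) by
        rw [hE ψ hψ]; split_ifs <;> simp),
      Finset.sum_add_distrib, Finset.sum_const, nsmul_eq_mul, hcard, Finset.sum_ite_mem,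
      Finset.inter_eq_right.2 hOsub, Finset.sum_const, nsmul_eq_mul]
    ring
  refine ⟨b, O.card, Int.natCast_nonneg _, Int.natCast_nonneg _, fun hr => ?_, fun he => ?_, ?_, ?_, ?_⟩
  · rw [Nat.cast_eq_zero, Finset.card_eq_zero, Finset.eq_empty_iff_forall_notMem]
    intro ψ hψ
    obtain ⟨h1, h2⟩ := (Finset.mem_filter.1 hψ).2
    exact (S.mem_rest.1 hr).2 (S.mem_exc.2 ⟨ψ, h1, h2⟩)
  · obtain ⟨φ, hφ, rfl⟩ := S.mem_exc.1 he
    refine ⟨S.const φ hφ, ?_⟩
    rw [← AbelianFrob.card_orb P hab (fpf P hP) hφ]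
    congr 2
    ext ψ
    simp only [hO, Finset.mem_filter, Finset.mem_univ, true_and]
    constructor
    · rintro ⟨hψ, hψe⟩
      exact (S.eq_iff φ ψ hφ hψ).1 hψe.symm
    · intro h
      exact ⟨AbelianFrob.ne_one_of_mem_orb P h hφ,
        ((S.eq_iff φ ψ hφ (AbelianFrob.ne_one_of_mem_orb P h hφ)).2 h).symm⟩
  · have h1 : ((charDegree (χ : G → ℂ) : ℤ) : ℂ) =
        ((∑ ψ : AbelianFrob.Dual P, AbelianFrob.bcoef P χ ψ : ℤ) : ℂ) := by
      have hsum := AbelianFrob.res_eq_sum P hab χ 1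
      simp only [OneMemClass.coe_one, map_one, Units.val_one, mul_one] at hsum
      push_cast
      rw [← irr_one_eq_charDegree, hsum]
    have h3 := hsum id
    simp only [id] at h3
    rw [Int.cast_inj.1 h1, h3]
    ring
  · intro hk
    have hlt : O.card < (Finset.univ.erase (1 : AbelianFrob.Dual P)).card := by omega
    obtain ⟨ψ, hψ, hψO⟩ := Finset.exists_mem_notMem_of_card_lt_card hlt
    have h := hE ψ hψ
    rw [if_neg hψO, add_zero] at h
    have h2 : 0 ≤ AbelianFrob.bcoef P χ ψ := Int.natCast_nonneg _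
    omega
  · rw [hsum fun x => x ^ 2]
    have := S.delta_sq
    linear_combination (O.card : ℤ) * this

end CfsgLib.Order7920
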