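import Cfsg.Agent.Lib.Order7920.PrimeSection

/-!
# The principal 11-block of a simple group of order 7920
-/

set_option autoImplicit false
set_option linter.style.haveILetI false
set_option linter.unusedSectionVars false
open Cfsg CfsgLib.Characters CfsgLib.CharCorr
open scoped ComplexConjugate

namespace CfsgLib.Order7920

universe u

variable {G : Type u} [Group G] [Fintype G] [IsSimpleGroup G]

theorem not_comm (hG : Nat.card G = 7920) : ¬ IsMulCommutative G :=
  Small.nc_of_not_prime (by rw [hG]; norm_num)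

theorem card_sylow_eleven (hG : Nat.card G = 7920) [Fact (Nat.Prime 11)] (P : Sylow 11 G) :
    Nat.card (P : Subgroup G) = 11 :=
  (Small.card_sylow_of_card_eq (k := 1) (m := 720) (by rw [hG]; norm_num) (by norm_num) P).trans
    (pow_one 11)

/-- Twelve Sylow subgroups leave no room for the centraliser. -/
theorem card_centralizer_le_of_twelve (hG : Nat.card G = 7920) [Fact (Nat.Prime 11)] (P : Sylow 11 G)
    (hn : Nat.card (Sylow 11 G) = 12) : Nat.card (AbelianFrob.CP P) ≤ 11 := by
  classical
  have hP := card_sylow_eleven hG P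
  obtain ⟨y, hy⟩ := exists_prime_orderOf_dvd_card' (G := (P : Subgroup G)) 11 hP.symm.dvd
  have hy1 : (y : G) ≠ 1 := fun h => by
    rw [← Subgroup.orderOf_coe, h, orderOf_one] at hy
    omega
  have hz := Small.eq_zpowers_of_mem hP y.2 hy1
  -- `y` fixes `P` only
  have hfix : ∀ Q : Sylow 11 G, (y : G) • Q = Q → Q = P := by
    intro Q hQ
    have hle : Subgroup.zpowers (y : G) ≤ Subgroup.normalizer ((Q : Subgroup G) : Set G) := by
      rw [Subgroup.zpowers_le]
      exact Sylow.smul_eq_iff_mem_normalizer.1 hQ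
    rw [← hz] at hle
    have h1 := (IsPGroup.inf_normalizer_sylow P.2 Q).symm.trans (inf_eq_left.2 hle)
    exact Sylow.ext (P.3 Q.2 (inf_eq_left.1 h1))
  obtain ⟨Q, hQ⟩ : ∃ Q : Sylow 11 G, Q ≠ P := by
    by_contra! hall
    have : Subsingleton (Sylow 11 G) := ⟨fun a b => (hall a).trans (hall b).symm⟩
    rw [Nat.card_eq_one_iff_unique.2 ⟨this, ⟨P⟩⟩] at hn
    omega
  have horb : ∀ R : Sylow 11 G, R ≠ P → ∃ i : ℕ, R = (y : G) ^ i • Q := by
    let f : Option (Fin 11) → Sylow 11 G := fun o => o.elim P fun i => (y : G) ^ (i : ℕ) • Q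
    have hyP : ∀ i : ℕ, (y : G) ^ i • P = P := fun i => Sylow.smul_eq_iff_mem_normalizer.2
      (Subgroup.le_normalizer (Subgroup.pow_mem _ y.2 i))
    have hne : ∀ i : ℕ, (y : G) ^ i • Q ≠ P := fun i h => hQ
      (smul_left_cancel _ (h.trans (hyP i).symm))
    have hord : orderOf (y : G) = 11 := by rw [Subgroup.orderOf_coe]; exact hy
    have hper : Function.Injective fun i : Fin 11 => (y : G) ^ (i : ℕ) • Q := by
      intro i j hij
      by_contra hne'
      have key : ∀ a b : ℕ, a < b → b < 11 → (y : G) ^ a • Q ≠ (y : G) ^ b • Q := by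
        intro a b hab hb h
        have h1 : (y : G) ^ (b - a) • Q = Q := by
          apply smul_left_cancel ((y : G) ^ a)
          rw [← mul_smul, ← pow_add, Nat.add_sub_cancel' hab.le, ← h]
        have hcop : Nat.Coprime 11 (b - a) := (Nat.Prime.coprime_iff_not_dvd (by norm_num)).2
          (Nat.not_dvd_of_pos_of_lt (by omega) (by omega))
        obtain ⟨m, hm⟩ := exists_pow_eq_self_of_coprime (x := (y : G)) (n := b - a)
          (by rw [hord]; exact hcop.symm)
        have h2 : ((y : G) ^ (b - a)) ^ m • Q = Q := Sylow.smul_eq_iff_mem_normalizer.2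
          (Subgroup.pow_mem _ (Sylow.smul_eq_iff_mem_normalizer.1 h1) _)
        rw [hm] at h2
        exact hQ (hfix Q h2)
      rcases lt_or_gt_of_ne (fun h : (i : ℕ) = j => hne' (Fin.ext h)) with h | h
      · exact key _ _ h j.2 hij
      · exact key _ _ h i.2 hij.symm
    have hf : Function.Injective f := by
      rintro (_ | i) (_ | j) h
      · rfl
      · exact absurd h.symm (hne _)
      · exact absurd h (hne _)
      · exact congrArg some (hper h)
    have hbij := (Nat.bijective_iff_injective_and_card f).2 ⟨hf, by rw [hn]; simp⟩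
    intro R hR
    obtain ⟨_ | i, hi⟩ := hbij.2 R
    · exact absurd hi.symm hR
    · exact ⟨i, hi.symm⟩
  have hNtop : Subgroup.normalizer ((P : Subgroup G) : Set G) ≠ ⊤ :=
    Small.sylow_normalizer_ne_top (not_comm hG) (hG ▸ by norm_num) P
  have hinj : Function.Injective fun c : AbelianFrob.CP P =>
      (⟨(c : G) • Q, fun h => hQ (smul_left_cancel (c : G) (h.trans
        (Sylow.smul_eq_iff_mem_normalizer.2 (AbelianFrob.CP_le_NP P c.2)).symm))⟩ :
        {R : Sylow 11 G // R ≠ P}) := by
    intro a b hab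
    have h1 : ((b⁻¹ * a : AbelianFrob.CP P) : G) • Q = Q := by
      rw [Subgroup.coe_mul, mul_smul, show (a : G) • Q = (b : G) • Q from congrArg Subtype.val hab,
        ← mul_smul, Subgroup.coe_inv, inv_mul_cancel, one_smul]
    set e := b⁻¹ * a
    have hall : ∀ R : Sylow 11 G, (e : G) • R = R := by
      intro R
      by_cases hR : R = P
      · subst hR
        exact Sylow.smul_eq_iff_mem_normalizer.2 (AbelianFrob.CP_le_NP R e.2)
      · obtain ⟨i, rfl⟩ := horb R hR
        rw [← mul_smul, ← Subgroup.mem_centralizer_iff.1 e.2 _ (Subgroup.pow_mem _ y.2 i),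
          mul_smul, h1]
    have hker : (e : G) ∈ (MulAction.toPermHom G (Sylow 11 G)).ker :=
      MonoidHom.mem_ker.2 (Equiv.ext hall)
    rcases (MulAction.toPermHom G (Sylow 11 G)).normal_ker.eq_bot_or_eq_top with h | h
    · rw [h, Subgroup.mem_bot] at hker
      exact (inv_mul_eq_one.1 (Subtype.ext hker : e = 1)).symm
    · exfalso
      refine hQ ?_
      obtain ⟨g, hg⟩ := MulAction.exists_smul_eq G P Q
      have : (MulAction.toPermHom G (Sylow 11 G)) g P = P := by
        rw [MonoidHom.mem_ker.1 (h ▸ Subgroup.mem_top g)]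
        rfl
      exact hg.symm.trans this
  refine (Nat.card_le_card_of_injective _ hinj).trans ?_
  rw [Nat.card_eq_fintype_card, Fintype.card_subtype_compl, Fintype.card_subtype_eq,
    ← Nat.card_eq_fintype_card, hn]

/-- The normaliser and centraliser of a Sylow 11-subgroup. -/
theorem eleven_cases (hG : Nat.card G = 7920) [Fact (Nat.Prime 11)] (P : Sylow 11 G) :
    ((AbelianFrob.CP P).relIndex (AbelianFrob.NP P) = 5 ∧ Nat.card (AbelianFrob.CP P) = 11) ∨
      ((AbelianFrob.CP P).relIndex (AbelianFrob.NP P) = 2 ∧ Nat.card (AbelianFrob.CP P) = 88) := by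
  have hnc := not_comm hG
  have hP := card_sylow_eleven hG P
  have hn := Small.card_sylow_mem (p := 11) (G := G) hnc (k := 1) (m := 720) one_ne_zero
    (by rw [hG]; norm_num) (by norm_num)
  rw [show (Nat.divisors 720).filter (fun n => n % 11 = 1 ∧ 1 < n) = {12, 45, 144} by decide +kernel,
    Finset.mem_insert, Finset.mem_insert, Finset.mem_singleton] at hn
  have h1 := Small.card_centralizer_mul_relIndex (P : Subgroup G)
  have h2 := Small.card_normalizer_mul_card_sylow P
  have hdvd : (AbelianFrob.CP P).relIndex (AbelianFrob.NP P) ∣ 10 :=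
    Small.relIndex_centralizer_normalizer_dvd_of_prime hP
  have hne : (AbelianFrob.CP P).relIndex (AbelianFrob.NP P) ≠ 1 := fun h =>
    Small.not_normalizer_le_centralizer hnc (hG ▸ by norm_num) P (Subgroup.relIndex_eq_one.1 h)
  have hC11 := prime_dvd_card_centralizer P hP
  rw [hG] at h2
  rw [← h1] at h2
  set m := (AbelianFrob.CP P).relIndex (AbelianFrob.NP P) with hm
  set C := Nat.card (AbelianFrob.CP P) with hC
  change C * m * _ = _ at h2
  have hm' : m ∈ Nat.divisors 10 := Nat.mem_divisors.2 ⟨hdvd, by norm_num⟩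
  rw [show Nat.divisors 10 = {1, 2, 5, 10} by decide +kernel] at hm'
  simp only [Finset.mem_insert, Finset.mem_singleton] at hm'
  obtain ⟨c, hc⟩ := hC11
  rcases hn with hn | hn | hn
  · exfalso
    have h3 := card_centralizer_le_of_twelve hG P hn
    rw [hn] at h2
    rcases hm' with h | h | h | h <;> rw [h] at h2 <;> omega
  · rw [hn] at h2
    rcases hm' with h | h | h | h <;> rw [h] at h2 <;> omega
  · rw [hn] at h2
    rcases hm' with h | h | h | h <;> rw [h] at h2 <;> omega

/-- The degree equation and the squares in the principal block. -/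
structure Block (p : ℕ) [Fact p.Prime] (R E Z : Finset (IrrCharacter G)) (A : IrrCharacter G → ℤ)
    (D : ℕ) : Prop where
  split : ∀ F : IrrCharacter G → ℂ,
    ∑ χ, F χ = F (principalIrr G) + ∑ χ ∈ R, F χ + ∑ χ ∈ E, F χ + ∑ χ ∈ Z, F χ
  cardE : E.card = 2
  degE : ∀ χ ∈ E, charDegree (χ : G → ℂ) = D
  degZ : ∀ χ ∈ Z, p ∣ charDegree (χ : G → ℂ)
  rel : ∀ χ ∈ E, ∀ g : G, ¬ p ∣ orderOf g →
    (χ : G → ℂ) g = 1 + ∑ η ∈ R, (A η : ℂ) * (η : G → ℂ) g
  vanish : ∀ χ ∈ Z, ∀ g : G, orderOf g = p → (χ : G → ℂ) g = 0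

end CfsgLib.Order7920
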