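import Cfsg.Agent.Lib.Order7920.BlockEleven

/-!
# The Sylow 5-subgroup of a simple group of order 7920
-/

set_option autoImplicit false
set_option linter.style.haveILetI false
set_option linter.unusedSectionVars false
open Cfsg CfsgLib.Characters CfsgLib.CharCorr
open scoped ComplexConjugate

namespace CfsgLib.Order7920

universe u

variable {G : Type u} [Group G] [Fintype G] [IsSimpleGroup G]

section Scalar

variable {p : ℕ} [hp : Fact p.Prime] (P : Sylow p G) (hP : Nat.card (P : Subgroup G) = p)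

include hP in
/-- A faithful character of degree `p` vanishing on `p`-singular elements: no regular element
centralises a Sylow subgroup of order `p`. -/
theorem eq_one_of_degree_prime (hnc : ¬ IsMulCommutative G) {χ : IrrCharacter G}
    (hne : χ ≠ principalIrr G) (hdeg : charDegree (χ : G → ℂ) = p)
    (hvan : ∀ g : G, p ∣ orderOf g → (χ : G → ℂ) g = 0) {w : G} (hw : w ∈ AbelianFrob.CP P)
    (hwp : ¬ p ∣ orderOf w) : w = 1 := by
  classical
  have hab := isMulCommutative_sylow P hP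
  have hc1 : (χ : G → ℂ) 1 = p := by rw [irr_one_eq_charDegree, hdeg]
  obtain ⟨n, ρ, hρ, hχ⟩ := χ.2
  have hval : ∀ g : G, LinearMap.trace ℂ _ (ρ g) = (χ : G → ℂ) g := fun g => by rw [← hχ]; rfl
  have hp0 : (p : ℂ) ≠ 0 := Nat.cast_ne_zero.2 hp.out.ne_zero
  let E : AbelianFrob.Dual P → Module.End ℂ (Fin n → ℂ) := fun ψ =>
    ∑ a : (P : Subgroup G), (ψ a⁻¹ : ℂ) • ρ (a : G)
  have hEE : ∀ ψ, E ψ * E ψ = (p : ℂ) • E ψ := by
    intro ψ
    have hmul : ∀ a : (P : Subgroup G), (ψ a⁻¹ : ℂ) • (ρ (a : G) * E ψ) = E ψ := by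
      intro a
      simp only [E, Finset.mul_sum, Finset.smul_sum]
      refine Fintype.sum_equiv (Equiv.mulLeft a) _ _ fun y => ?_
      simp only [Equiv.coe_mulLeft, mul_smul_comm, smul_smul, ← map_mul ρ, Subgroup.coe_mul, map_inv,
        map_mul ψ, mul_inv, Units.val_mul]
    conv_lhs => arg 1; simp only [E]
    rw [Finset.sum_mul, Finset.sum_congr rfl (fun y _ => (smul_mul_assoc _ _ _).trans (hmul y)),
      Finset.sum_const, Finset.card_univ, ← Nat.card_eq_fintype_card, hP, Nat.cast_smul_eq_nsmul]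
  have hvan' : ∀ v : G, v ∈ AbelianFrob.CP P → ¬ p ∣ orderOf v → ∀ a : (P : Subgroup G), a ≠ 1 →
      (χ : G → ℂ) (v * a) = 0 := by
    intro v hv hvp a ha
    refine hvan _ ?_
    have ho : orderOf (a : G) = p := by
      rw [Subgroup.orderOf_coe]
      have h := orderOf_dvd_natCard a
      rw [hP] at h
      exact (hp.out.eq_one_or_self_of_dvd _ h).resolve_left fun h => ha (orderOf_eq_one_iff.1 h)
    have hc : Commute v (a : G) := (Subgroup.mem_centralizer_iff.1 hv a a.2).symm
    rw [hc.orderOf_mul_eq_mul_orderOf_of_coprime (by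
      rw [ho]; exact ((hp.out.coprime_iff_not_dvd).2 hvp).symm), ho]
    exact dvd_mul_left _ _
  have htr : ∀ v : G, v ∈ AbelianFrob.CP P → ¬ p ∣ orderOf v → ∀ ψ,
      LinearMap.trace ℂ _ (ρ v * E ψ) = (χ : G → ℂ) v := by
    intro v hv hvp ψ
    simp only [E, Finset.mul_sum, map_sum]
    rw [Finset.sum_eq_single (1 : (P : Subgroup G))]
    · simp [hval]
    · intro a _ ha
      rw [mul_smul_comm, map_smul, ← map_mul ρ, hval, hvan' v hv hvp a ha, smul_zero]
    · simp
  have hrank : ∀ ψ, ∃ c : ℂ, ρ w * E ψ = c • E ψ := by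
    intro ψ
    set Q : Module.End ℂ (Fin n → ℂ) := (p : ℂ)⁻¹ • E ψ with hQ
    have hQQ : IsIdempotentElem Q := by
      show Q * Q = Q
      rw [hQ, smul_mul_smul_comm, hEE, smul_smul, mul_assoc, inv_mul_cancel₀ hp0, mul_one]
    have hQ1 : LinearMap.trace ℂ _ Q = 1 := by
      rw [hQ, map_smul, ← one_mul (E ψ), ← map_one ρ, htr 1 (one_mem _)
        (by rw [orderOf_one]; exact hp.out.not_dvd_one) ψ, hc1, smul_eq_mul, inv_mul_cancel₀ hp0]
    rw [(LinearMap.IsIdempotentElem.isProj_range Q hQQ).trace, Nat.cast_eq_one,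
      finrank_eq_one_iff'] at hQ1
    obtain ⟨v, -, hv⟩ := hQ1
    have hcomm : ρ w * Q = Q * ρ w := by
      simp only [hQ, E, mul_smul_comm, smul_mul_assoc, Finset.mul_sum, Finset.sum_mul, ← map_mul ρ]
      congr 1
      exact Finset.sum_congr rfl fun a _ => by
        rw [show w * (a : G) = a * w from (Subgroup.mem_centralizer_iff.1 hw a a.2).symm]
    obtain ⟨c, hc⟩ := hv ⟨ρ w (v : Fin n → ℂ), by
      obtain ⟨x, hx⟩ := v.2
      exact ⟨ρ w x, by rw [← hx]; exact (LinearMap.congr_fun hcomm x).symm⟩⟩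
    have hc' : c • (v : Fin n → ℂ) = ρ w (v : Fin n → ℂ) := congrArg Subtype.val hc
    refine ⟨c, LinearMap.ext fun x => ?_⟩
    have hEQ : E ψ = (p : ℂ) • Q := by rw [hQ, smul_smul, mul_inv_cancel₀ hp0, one_smul]
    obtain ⟨e, he⟩ := hv ⟨Q x, LinearMap.mem_range_self Q x⟩
    have he' : e • (v : Fin n → ℂ) = Q x := congrArg Subtype.val he
    simp only [hEQ, Module.End.mul_apply, LinearMap.smul_apply, map_smul, ← he', ← hc', smul_smul]
    ring_nf
  have hscal : ρ w = ((χ : G → ℂ) w / p) • (1 : Module.End ℂ (Fin n → ℂ)) := by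
    have hsum : ∑ ψ : AbelianFrob.Dual P, E ψ = (p : ℂ) • (1 : Module.End ℂ (Fin n → ℂ)) := by
      simp only [E]
      rw [Finset.sum_comm, Finset.sum_eq_single (1 : (P : Subgroup G))]
      · simp only [inv_one, map_one, Units.val_one, one_smul, OneMemClass.coe_one, map_one,
          Finset.sum_const, Finset.card_univ]
        rw [← Nat.card_eq_fintype_card, AbelianFrob.card_dual P hab, hP, Nat.cast_smul_eq_nsmul]
      · intro a _ ha
        rw [← Finset.sum_smul, AbelianFrob.sum_dual_apply P hab (inv_ne_one.2 ha), zero_smul]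
      · simp
    have hterm : ∀ ψ, ρ w * E ψ = ((χ : G → ℂ) w / p) • E ψ := by
      intro ψ
      obtain ⟨c, hc⟩ := hrank ψ
      have h := congrArg (LinearMap.trace ℂ _) hc
      rw [htr w hw hwp ψ, map_smul, ← one_mul (E ψ), ← map_one ρ, htr 1 (one_mem _)
        (by rw [orderOf_one]; exact hp.out.not_dvd_one) ψ, hc1, smul_eq_mul] at h
      rw [hc, h, mul_div_cancel_right₀ _ hp0]
    have h : (p : ℂ) • ρ w = ((χ : G → ℂ) w / p) • ((p : ℂ) • (1 : Module.End ℂ (Fin n → ℂ))) := by
      rw [← hsum, Finset.smul_sum, ← Finset.sum_congr rfl (fun ψ _ => hterm ψ), ← Finset.mul_sum, hsum,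
        mul_smul_comm, mul_one]
    rw [smul_smul, mul_comm, ← smul_smul] at h
    exact smul_right_injective _ hp0 h
  have hcen : w ∈ Subgroup.center G := by
    refine Subgroup.mem_center_iff.2 fun g => ?_
    refine (mul_inv_eq_one.1 (eq_one_of_apply_eq_one hne (v := (g * w) * (w * g)⁻¹) ?_))
    have h1 : ρ (g * w) = ρ (w * g) := by
      rw [map_mul, map_mul, hscal, mul_smul_comm, smul_mul_assoc, mul_one, one_mul]
    rw [← hval, ← hval, map_mul, h1, ← map_mul, mul_inv_cancel]
  rw [Small.center_eq_bot_of_nc hnc] at hcen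
  exact Subgroup.mem_bot.1 hcen

end Scalar

theorem card_sylow_five (hG : Nat.card G = 7920) [Fact (Nat.Prime 5)] (P : Sylow 5 G) :
    Nat.card (P : Subgroup G) = 5 :=
  (Small.card_sylow_of_card_eq (k := 1) (m := 1584) (by rw [hG]; norm_num) (by norm_num) P).trans
    (pow_one 5)

theorem card_sylow_two (hG : Nat.card G = 7920) [Fact (Nat.Prime 2)] (P : Sylow 2 G) :
    Nat.card (P : Subgroup G) = 16 :=
  (Small.card_sylow_of_card_eq (k := 4) (m := 495) (by rw [hG]; norm_num) (by norm_num) P).trans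
    (by norm_num)

theorem vanish_five (hG : Nat.card G = 7920) (χ : IrrCharacter G)
    (h : 5 ∣ charDegree (χ : G → ℂ)) {g : G} (hg : 5 ∣ orderOf g) : (χ : G → ℂ) g = 0 := by
  haveI := Fact.mk (by norm_num : Nat.Prime 5)
  obtain ⟨P⟩ : Nonempty (Sylow 5 G) := inferInstance
  refine DefectZeroVanish.vanish_of_defect_zero χ ?_ hg
  rwa [← P.card_eq_multiplicity, card_sylow_five hG P]

theorem vanish_two (hG : Nat.card G = 7920) (χ : IrrCharacter G)
    (h : 16 ∣ charDegree (χ : G → ℂ)) {g : G} (hg : 2 ∣ orderOf g) : (χ : G → ℂ) g = 0 := by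
  haveI := Fact.mk (by norm_num : Nat.Prime 2)
  obtain ⟨P⟩ : Nonempty (Sylow 2 G) := inferInstance
  refine DefectZeroVanish.vanish_of_defect_zero χ ?_ hg
  rwa [← P.card_eq_multiplicity, card_sylow_two hG P]

/-- A centraliser of order eleven leaves no elements of order 55. -/
theorem not_eleven_dvd (hG : Nat.card G = 7920) [Fact (Nat.Prime 5)] [Fact (Nat.Prime 11)]
    (hC : ∀ P : Sylow 11 G, Nat.card (AbelianFrob.CP P) = 11) (Q : Sylow 5 G) :
    ¬ 11 ∣ Nat.card (AbelianFrob.CP Q) := by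
  intro hd
  obtain ⟨w, hw⟩ := exists_prime_orderOf_dvd_card' (G := AbelianFrob.CP Q) 11 hd
  rw [← Subgroup.orderOf_coe] at hw
  obtain ⟨y, hy⟩ := exists_prime_orderOf_dvd_card' (G := (Q : Subgroup G)) 5
    (card_sylow_five hG Q).symm.dvd
  obtain ⟨P, hP, -⟩ := Small.exists_unique_sylow_mem hw fun P => card_sylow_eleven hG P
  have hw1 : (w : G) ≠ 1 := fun h => by rw [h, orderOf_one] at hw; omega
  have hy' : (y : G) ∈ Subgroup.centralizer ({(w : G)} : Set G) :=
    Subgroup.mem_centralizer_singleton_iff.2 (Subgroup.mem_centralizer_iff.1 w.2 y y.2)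
  rw [centralizer_singleton_eq P (card_sylow_eleven hG P) hP hw1] at hy'
  have h := Subgroup.orderOf_dvd_natCard _ hy'
  rw [hC P, Subgroup.orderOf_coe, hy] at h
  norm_num at h

/-- The integral values on an element of order five, once all its powers are conjugate. -/
theorem five_values (hG : Nat.card G = 7920) [Fact (Nat.Prime 5)] (Q : Sylow 5 G)
    (hC : Nat.card (AbelianFrob.CP Q) = 5)
    (he : (AbelianFrob.CP Q).relIndex (AbelianFrob.NP Q) = 4) :
    ∃ (y : G) (v : IrrCharacter G → ℤ), orderOf y = 5 ∧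
      (∀ χ : IrrCharacter G, (χ : G → ℂ) y = (v χ : ℂ)) ∧
      (∀ χ : IrrCharacter G, (5 : ℤ) ∣ (charDegree (χ : G → ℂ) : ℤ) - v χ) ∧
      (∀ χ : IrrCharacter G, 5 ∣ charDegree (χ : G → ℂ) → v χ = 0) ∧
      ∑ χ : IrrCharacter G, v χ ^ 2 = 5 ∧
      ∑ χ : IrrCharacter G, (charDegree (χ : G → ℂ) : ℤ) * v χ = 0 := by
  classical
  have hP := card_sylow_five hG Q
  have hab := isMulCommutative_sylow Q hP
  obtain ⟨y, hy⟩ := exists_prime_orderOf_dvd_card' (G := (Q : Subgroup G)) 5 hP.symm.dvd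
  have hy1 : (y : G) ≠ 1 := fun h => by
    rw [← Subgroup.orderOf_coe, h, orderOf_one] at hy; omega
  rw [← Subgroup.orderOf_coe] at hy
  -- all non-identity elements of `Q` are conjugate
  have hconj : ∀ a : (Q : Subgroup G), a ≠ 1 → IsConj (y : G) (a : G) := by
    let f : AbelianFrob.NP Q → (Q : Subgroup G) := fun m =>
      ⟨(m : G) * y * (m : G)⁻¹, (Subgroup.mem_normalizer_iff.1 m.2 y).1 y.2⟩
    have hfib : ∀ a ∈ (Finset.univ : Finset (AbelianFrob.NP Q)).image f,
        (Finset.univ.filter fun m => f m = a).card ≤ 5 := by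
      intro a ha
      obtain ⟨m₀, -, rfl⟩ := Finset.mem_image.1 ha
      refine le_trans ?_ ((Finset.card_univ.trans Fintype.card_eq_nat_card).trans hC).le
      have hmem : ∀ m ∈ Finset.univ.filter (fun m => f m = f m₀),
          (m₀ : G)⁻¹ * (m : G) ∈ AbelianFrob.CP Q := by
        intro m hm
        have h : (m : G) * y * (m : G)⁻¹ = m₀ * y * (m₀ : G)⁻¹ :=
          congrArg Subtype.val (Finset.mem_filter.1 hm).2
        rw [← centralizer_singleton_eq Q hP y.2 hy1, Subgroup.mem_centralizer_singleton_iff]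
        calc (m₀ : G)⁻¹ * m * y = (m₀ : G)⁻¹ * (m * y * (m : G)⁻¹) * m := by group
          _ = y * ((m₀ : G)⁻¹ * m) := by rw [h]; group
      refine Finset.card_le_card_of_injOn
        (fun m => if hm : (m₀ : G)⁻¹ * (m : G) ∈ AbelianFrob.CP Q then ⟨_, hm⟩ else 1)
        (fun m _ => Finset.mem_coe.2 (Finset.mem_univ _)) fun a ha b hb hab' => ?_
      simp only [dif_pos (hmem a ha), dif_pos (hmem b hb)] at hab'
      exact Subtype.ext (mul_left_cancel (congrArg Subtype.val hab'))
    have h1 := Finset.card_le_mul_card_image (f := f) Finset.univ 5 hfib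
    have hN : Nat.card (AbelianFrob.NP Q) = 20 := by
      have h := Small.card_centralizer_mul_relIndex (Q : Subgroup G)
      change Nat.card (AbelianFrob.CP Q) * (AbelianFrob.CP Q).relIndex (AbelianFrob.NP Q) =
        Nat.card (AbelianFrob.NP Q) at h
      rw [hC, he] at h
      omega
    rw [Finset.card_univ, ← Nat.card_eq_fintype_card, hN] at h1
    have hsub : (Finset.univ : Finset (AbelianFrob.NP Q)).image f ⊆
        Finset.univ.erase (1 : (Q : Subgroup G)) := by
      intro a ha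
      obtain ⟨m, -, rfl⟩ := Finset.mem_image.1 ha
      refine Finset.mem_erase.2 ⟨fun h => hy1 ?_, Finset.mem_univ _⟩
      exact conj_eq_one_iff.1 (congrArg Subtype.val h)
    have heq := Finset.eq_of_subset_of_card_le hsub (by
      rw [Finset.card_erase_of_mem (Finset.mem_univ _), Finset.card_univ, ← Nat.card_eq_fintype_card, hP]
      omega)
    intro a ha
    obtain ⟨m, -, rfl⟩ := Finset.mem_image.1 (heq ▸ Finset.mem_erase.2 ⟨ha, Finset.mem_univ a⟩)
    exact isConj_iff.2 ⟨m, rfl⟩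
  obtain ⟨ψ, hψ⟩ : ∃ ψ : AbelianFrob.Dual Q, ψ ≠ 1 := by
    have : Nontrivial (AbelianFrob.Dual Q) := Finite.one_lt_card_iff_nontrivial.1
      (by rw [AbelianFrob.card_dual Q hab, hP]; norm_num)
    exact exists_ne 1
  let v : IrrCharacter G → ℤ := fun χ =>
    (charDegree (χ : G → ℂ) : ℤ) - 5 * AbelianFrob.bcoef Q χ ψ
  have hv : ∀ χ : IrrCharacter G, (χ : G → ℂ) y = (v χ : ℂ) := by
    intro χ
    have h := AbelianFrob.bcoef_eq Q χ ψ
    rw [← Finset.add_sum_erase _ _ (Finset.mem_univ (1 : (Q : Subgroup G))),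
      Finset.sum_congr rfl ((fun a ha => by
        rw [← classFunction_eq_of_isConj (irr_isClassFunction χ) (hconj a (Finset.mem_erase.1 ha).1)]) :
        ∀ a ∈ Finset.univ.erase (1 : (Q : Subgroup G)),
          (χ : G → ℂ) a * (ψ a⁻¹ : ℂ) = (χ : G → ℂ) y * (ψ a⁻¹ : ℂ)),
      ← Finset.mul_sum, OneMemClass.coe_one, hP, irr_one_eq_charDegree] at h
    have h0 : ∑ a : (Q : Subgroup G), (ψ a⁻¹ : ℂ) = 0 := by
      rw [Fintype.sum_equiv (Equiv.inv _) (fun a => (ψ a⁻¹ : ℂ)) (fun a => (ψ a : ℂ)) fun a => rfl]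
      refine sum_hom_units_eq_zero ((Units.coeHom ℂ).comp ψ) fun hc => hψ ?_
      exact MonoidHom.ext fun a => Units.ext (DFunLike.congr_fun hc a)
    rw [← Finset.add_sum_erase _ _ (Finset.mem_univ (1 : (Q : Subgroup G)))] at h0
    simp only [inv_one, map_one, Units.val_one, mul_one] at h h0
    simp only [v]
    push_cast
    rw [h, eq_neg_of_add_eq_zero_right h0]
    push_cast
    ring
  refine ⟨y, v, hy, hv, fun χ => ⟨AbelianFrob.bcoef Q χ ψ, by simp only [v]; ring⟩,
    fun χ hχ => ?_, ?_, ?_⟩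
  · have h := hv χ
    rw [vanish_five hG χ hχ (by rw [hy])] at h
    exact_mod_cast h.symm
  · have h := column_orth (y : G) (y : G)
    rw [if_pos (IsConj.refl _), centralizer_singleton_eq Q hP y.2 hy1, hC] at h
    simp only [hv, map_intCast, ← Int.cast_mul, ← Int.cast_sum] at h
    have h' : ∑ χ : IrrCharacter G, v χ * v χ = 5 := by exact_mod_cast h
    simpa [sq] using h'
  · have h := column_orth (1 : G) (y : G)
    rw [if_neg fun hc => hy1 (isConj_one_right.1 hc)] at h
    simp only [hv, map_intCast, irr_one_eq_charDegree] at h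
    exact_mod_cast h

end CfsgLib.Order7920
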